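/-
The group `S₃ ≀ 2`: arithmetic.
-/
import Cfsg.Agent.Char.PMod2

namespace CF.Char.T3
open CF.Char.Emb CF.Char.PMod

def DD8 : Cert := [([1, 2, 2], 4, [[[-1, 1, 0, 0], [0, 0, 0, 1], [0, 0, 1, 0], [0, 0, 1, 0], [1, 0, 0, 1], [1,
    1, 1, 0], [1, 1, 1, 1]], [[0, 0, -1, 1], [0, 1, 0, 0], [0, 1, 1, 0], [1, 0, 0, 0], [1, 0, 0, 0], [1, 0, 1,
    1], [1, 1, 1, 1]], [[0, 0, 0, 1], [0, 0, 1, 0], [0, 1, 0, 0], [0, 1, 1, 0], [1, 0, 0, 0], [1, 0, 0, 1],
    [1, 0, 1, 0], [1, 1, 1, 1]], [[0, 0, 0, 1], [0, 1, 1, 0], [0, 1, 1, 0], [1, 0, 0, 0], [1, 0, 1, 0], [1, 0,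
    1, 1], [1, 1, 0, 1]], [[0, 0, 1, 0], [0, 1, 0, 0], [0, 1, 1, 1], [1, 0, 0, 1], [1, 0, 0, 1], [1, 0, 1, 0],
    [1, 1, 1, 0]], [[0, 0, 1, 0], [0, 1, 0, 1], [0, 1, 1, 0], [1, 0, 0, 0], [1, 0, 0, 1], [1, 0, 1, 1], [1, 1,
    1, 0]]]),   ([2, 1], 3, [[[0, -1, 1], [0, 1, 1], [1, 0, 0], [1, 1, 0], [1, 1, 1]], [[0, 0, 1], [0, 0, 1],
    [0, 1, 0], [0, 1, 0], [1, 0, 0], [1, 1, 0], [1, 1, 1]], [[0, 0, 1], [0, 1, 0], [0, 1, 1], [1, 0, 1], [1,
    1, 0], [1, 1, 0]]]),   ([1], 4, [[[-1, 1], [1, 0], [1, 1], [1, 1]], [[0, 1], [0, 1], [1, 0], [1, 0], [1,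
    0], [1, 1]]]),   ([], 3, [[[1], [1], [1]]])]

theorem chkD8 : chk DD8 = true := by decide +kernel

theorem inv_ge {x : ℤ} (k : ℕ) (h : 0 < k ∧ (x ≤ -k ∨ 0 < x)) : -1 / (k : ℚ) ≤ 1 / x := by
  have k0 : (0 : ℚ) < k := by exact_mod_cast h.1
  rcases h.2 with h | h
  · have : (x : ℚ) ≤ -k := by exact_mod_cast h
    rw [neg_div, ← div_neg]
    exact one_div_le_one_div_of_neg_of_le (by linarith) this
  · exact le_trans (by rw [neg_div]; exact neg_nonpos.2 (by positivity)) (by positivity : (0 : ℚ) ≤ 1 / x)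

theorem inv_pos' {x : ℤ} (h : 0 < x) : (0 : ℚ) ≤ 1 / x := by positivity

theorem contra_of_le {g Q : ℤ} {S σ : ℚ} (k : ℕ) (h : g * S = 648) (hQ : Q ≤ g) (h1 : (k : ℤ) ≤ Q) (h2 : σ ≤ S)
    (h3 : 648 < k * σ) : False := by
  have : (k : ℚ) ≤ g := by exact_mod_cast h1.trans hQ
  have k0 : (0 : ℚ) ≤ k := by positivity
  have : 0 < σ := by by_contra hh; nlinarith
  nlinarith

theorem sq_ge {x : ℤ} (k : ℤ) (h : 0 ≤ k ∧ (x ≤ -k ∨ k ≤ x)) : k ^ 2 ≤ x ^ 2 := by
  rcases h.2 with e | e <;> nlinarith [h.1]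

def srch (a c D : ℤ) : Bool :=
  let N := a * c * D * (1 + a + D) * (a + c + D) + 2 * c * D * (1 + a + D) * (a + c + D) +
    a * D * (1 + a + D) * (a + c + D) + 8 * a * c * (1 + a + D) * (a + c + D) + 2 * a * c * D * (a + c + D) +
    2 * a * c * D * (1 + a + D)
  let P := 648 * (a * c * D * (1 + a + D) * (a + c + D))
  P % N != 0 || P / N < 1 + 2 * a ^ 2 + c ^ 2 + D ^ 2 + 2 * (1 + a + D) ^ 2 + 2 * (a + c + D) ^ 2 ||
    a == 1 || c == 1 || D == -7 || P / N == 720 || (a, c, D, P / N) == (10, -8, -16, 20160) ||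
    (a, c, D, P / N) == (-8, 28, -25, 201600)

theorem srch_ok : ∀ i < 15, ∀ j < 45, ∀ k < 23,
    srch (9 * (i : ℕ) - 62) (9 * (j : ℕ) - 197) (9 * (k : ℕ) - 97) = true := by decide +kernel

set_option maxHeartbeats 1000000 in
theorem arithD8 {a c D A B g : ℤ} (ha : a % 9 = 1) (hc : c % 9 = 1) (hD : D % 9 = 2) (a1 : a ≠ 1) (c1 : c ≠ 1)
    (D1 : D ≠ -7) (hA : A = 1 + a + D) (hB : B = a + c + D)
    (h : (g : ℚ) * (1 + 2 * (1 / a) + 1 / c + 8 * (1 / D) + 2 * (1 / A) + 2 * (1 / B)) = 648)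
    (hQ : 1 + 2 * a ^ 2 + c ^ 2 + D ^ 2 + 2 * A ^ 2 + 2 * B ^ 2 ≤ g) :
    g = 720 ∨ (a = 10 ∧ c = -8 ∧ D = -16 ∧ g = 20160) ∨ (a = -8 ∧ c = 28 ∧ D = -25 ∧ g = 201600) := by
  have pa := inv_ge (x := a) 8 (by omega)
  have pc := inv_ge (x := c) 8 (by omega)
  have pD := inv_ge (x := D) 16 (by omega)
  have pA := inv_ge (x := A) 5 (by omega)
  have pB := inv_ge (x := B) 5 (by omega)
  have sa := sq_nonneg a
  have sc := sq_nonneg c
  have sD := sq_nonneg D
  have sA := sq_nonneg A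
  have sB := sq_nonneg B
  have h1 : -63 < a ∧ a < 65 := by
    by_contra hh
    have qa := inv_ge (x := a) 71 (by omega)
    have ra := sq_ge (x := a) 71 (by omega)
    by_cases hD' : D ≤ -34 ∨ 0 < D
    · have qD := inv_ge (x := D) 34 (by omega)
      refine contra_of_le (σ := 65 / 1000) 10082 h hQ (by push_cast; linarith) ?_ (by norm_num)
      rcases (by omega : (A ≤ -14 ∨ 0 < A) ∨ (B ≤ -14 ∨ 0 < B)) with e | e <;>
        have := inv_ge 14 ⟨by norm_num, e⟩ <;> push_cast at * <;> linarith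
    have qA := inv_ge (x := A) 86 (by omega)
    by_cases hB' : B = -5
    · rcases (by omega : a ≤ -71 ∨ 71 ≤ a) with e | e
      · have := inv_pos' (x := c) (by omega)
        have := sq_ge (x := A) 86 (by omega)
        exact contra_of_le (σ := 4 / 100) 24874 h hQ (by push_cast; linarith) (by push_cast at *; linarith)
          (by norm_num)
      · have := inv_pos' (x := a) (by omega)
        have := inv_pos' (x := A) (by omega)
        have := inv_ge (x := c) 50 (by omega)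
        exact contra_of_le (σ := 7 / 100) 10082 h hQ (by push_cast; linarith) (by push_cast at *; linarith)
          (by norm_num)
    · have := inv_ge (x := B) 14 (by omega)
      exact contra_of_le (σ := 7 / 100) 10082 h hQ (by push_cast; linarith) (by push_cast at *; linarith)
        (by norm_num)
  have h2 : -98 < D ∧ D < 102 := by
    by_contra hh
    have := inv_ge (x := D) 100 (by omega)
    have := inv_ge (x := A) 35 (by omega)
    have := sq_ge (x := D) 100 (by omega)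
    exact contra_of_le (σ := 8 / 100) 10000 h hQ (by push_cast; linarith) (by push_cast at *; linarith)
      (by norm_num)
  have h3 : -198 < c ∧ c < 200 := by
    by_contra hh
    have := inv_ge (x := c) 200 (by omega)
    have := inv_ge (x := B) 35 (by omega)
    have := sq_ge (x := c) 200 (by omega)
    refine contra_of_le (σ := 3 / 100) 40000 h hQ (by push_cast; linarith) ?_ (by norm_num)
    rcases (by omega : 0 < a ∨ 0 < D ∨ A ≤ -23) with e | e | e
    · have := inv_pos' e; push_cast at *; linarith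
    · have := inv_pos' e; push_cast at *; linarith
    · have := inv_ge (x := A) 23 (by omega); push_cast at *; linarith
  have := srch_ok ((a + 62) / 9).toNat (by omega) ((c + 197) / 9).toNat (by omega) ((D + 97) / 9).toNat (by omega)
  rw [show 9 * (((a + 62) / 9).toNat : ℤ) - 62 = a by omega, show 9 * (((c + 197) / 9).toNat : ℤ) - 197 = c by omega,
    show 9 * (((D + 97) / 9).toNat : ℤ) - 97 = D by omega, srch, ← hA, ← hB] at this
  have a0 : a ≠ 0 := by omega
  have c0 : c ≠ 0 := by omega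
  have D0 : D ≠ 0 := by omega
  have A0 : A ≠ 0 := by omega
  have B0 : B ≠ 0 := by omega
  have e : 648 * (a * c * D * A * B) = (a * c * D * A * B + 2 * c * D * A * B + a * D * A * B + 8 * a * c * A * B +
      2 * a * c * D * B + 2 * a * c * D * A) * g := by
    apply Int.cast_injective (α := ℚ)
    push_cast
    rw [← h]
    field_simp
  have e0 : a * c * D * A * B + 2 * c * D * A * B + a * D * A * B + 8 * a * c * A * B +
      2 * a * c * D * B + 2 * a * c * D * A ≠ 0 := fun e0 => by simp [e0, a0, c0, D0, A0, B0] at e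
  rw [e, Int.mul_emod_right, Int.mul_ediv_cancel_left _ e0] at this
  simp only [bne_self_eq_false, Bool.false_or, Bool.or_eq_true, decide_eq_true_eq, beq_iff_eq, Prod.mk.injEq] at this
  omega

def srch' (a w : ℤ) : Bool :=
  let N := a * (w - a - 1) * (a - 2 * w) + 2 * (w - a - 1) * (a - 2 * w) + a * (a - 2 * w) + 2 * a * (w - a - 1)
  648 * (a * (w - a - 1) * (a - 2 * w)) % N != 0 || a == 1 || w - a - 1 == 1 ||
    648 * (a * (w - a - 1) * (a - 2 * w)) / N < 2 * a ^ 2 + 2 * w ^ 2 + 2 * (a - 2 * w) ^ 2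

theorem srch_ok' : ∀ i < 9, ∀ j < 9, srch' (9 * (i : ℕ) - 35) (9 * (j : ℕ) - 33) = true := by decide +kernel

theorem arithD8' {a c w A g : ℤ} (ha : a % 9 = 1) (hw : w % 9 = 3) (a1 : a ≠ 1) (c1 : c ≠ 1)
    (hc : c = w - a - 1) (hA : A = a - 2 * w)
    (h : (g : ℚ) * (1 + 2 * (1 / a) + 1 / c + 2 * (1 / A)) = 648)
    (hQ : 2 * a ^ 2 + 2 * w ^ 2 + 2 * A ^ 2 ≤ g) : False := by
  have pa := inv_ge (x := a) 8 (by omega)
  have pc := inv_ge (x := c) 8 (by omega)
  have pA := inv_ge (x := A) 5 (by omega)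
  have k : ¬ 2890 ≤ 2 * a ^ 2 + 2 * w ^ 2 + 2 * A ^ 2 := fun e =>
    contra_of_le (σ := 9 / 40) 2890 h hQ e (by push_cast at *; linarith) (by norm_num)
  have sa := sq_nonneg a
  have sw := sq_nonneg w
  have sA := sq_nonneg A
  have h1 : -39 < a ∧ a < 39 := by
    by_contra hh
    linarith [sq_ge (x := a) 39 (by omega)]
  have h2 : -39 < w ∧ w < 39 := by
    by_contra hh
    linarith [sq_ge (x := w) 39 (by omega)]
  have := srch_ok' ((a + 35) / 9).toNat (by omega) ((w + 33) / 9).toNat (by omega)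
  rw [show 9 * (((a + 35) / 9).toNat : ℤ) - 35 = a by omega, show 9 * (((w + 33) / 9).toNat : ℤ) - 33 = w by omega,
    srch', ← hA, ← hc] at this
  have a0 : a ≠ 0 := by omega
  have c0 : c ≠ 0 := by omega
  have A0 : A ≠ 0 := by omega
  have e : 648 * (a * c * A) = (a * c * A + 2 * c * A + a * A + 2 * a * c) * g := by
    apply Int.cast_injective (α := ℚ)
    push_cast
    rw [← h]
    field_simp
  have e0 : a * c * A + 2 * c * A + a * A + 2 * a * c ≠ 0 := fun e0 => by simp [e0, a0, c0, A0] at e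
  rw [e, Int.mul_emod_right, Int.mul_ediv_cancel_left _ e0] at this
  simp only [bne_self_eq_false, Bool.false_or, Bool.or_eq_true, decide_eq_true_eq, beq_iff_eq] at this
  omega

end CF.Char.T3
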