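/-
Involution centralizers with a small model; the centralizer `2 × S₄`.
-/
import Cfsg.Agent.Char.T3l
import Cfsg.Agent.Invol.ZStarApp
import Cfsg.Agent.S3035
import Cfsg.Agent.Perm.AltOn

namespace CF.Char.IC
open Cfsg CF.Invol CF.Transfer Subgroup Equiv

variable {G X : Type*} [Group G] [Group X]

/-- `f` identifies `X` with the centralizer of `f c`. -/
structure CM (f : X →* G) (c : X) : Prop where
  inj : Function.Injective f
  rng : ∀ g, g * f c = f c * g ↔ ∃ x, f x = g

theorem exists_cm {t : G} (e : centralizer ({t} : Set G) ≃* X) : ∃ (f : X →* G) (c : X), CM f c ∧ f c = t :=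
  ⟨(Subgroup.subtype _).comp e.symm.toMonoidHom, e ⟨t, mem_centralizer_singleton_iff.2 rfl⟩,
    ⟨(subtype_injective _).comp e.symm.injective, fun g => ⟨fun h => ⟨e ⟨g, mem_centralizer_singleton_iff.2
      (by simpa using h)⟩, by simp⟩, by
        rintro ⟨x, rfl⟩; simpa using mem_centralizer_singleton_iff.1 (e.symm x).2⟩⟩, by simp⟩

namespace CM
variable {f : X →* G} {c : X} (h : CM f c)
include h

theorem comm (x : X) : x * c = c * x := h.inj (by simpa using (h.rng _).2 ⟨x, rfl⟩)

theorem range_eq : f.range = centralizer {f c} := by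
  ext g; rw [mem_centralizer_singleton_iff, h.rng]; rfl

theorem card : Nat.card (centralizer ({f c} : Set G)) = Nat.card X :=
  h.range_eq ▸ (Nat.card_congr (MonoidHom.ofInjective h.inj).toEquiv).symm

theorem pull {g : G} {x y : X} (e : g * f x * g⁻¹ = f c) (hy : y * x = x * y) :
    ∃ y', f y' = g * f y * g⁻¹ := (h.rng _).1 (by simp only [← e, conj_mul, ← map_mul, hy])

theorem eq_of_range {g : G} {x : X} (e : g * f x * g⁻¹ = f c) (hg : ∃ y, f y = g) : x = c :=
  h.inj (by rw [mul_inv_eq_iff_eq_mul, ← (h.rng g).2 hg, mul_right_inj] at e; exact e)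

omit h in
theorem conj {x y : X} (e : ∃ k, k * x * k⁻¹ = y) : IsConj (f x) (f y) := f.map_isConj (isConj_iff.2 e)

theorem thompson [Finite G] {T : Subgroup X} (hT : ¬ 2 ∣ (T.map f).index) (l : X →* Multiplicative (ZMod 2))
    {x : X} (hx : x ∈ T) (x2 : orderOf x = 2) (x1 : l x ≠ 1) (hh : ∀ y, l y = 1 → ¬ IsConj (f x) (f y)) :
    ∃ K : Subgroup G, K.index = 2 ∧ f x ∉ K := by
  obtain ⟨K, -, h1, h2⟩ := thompson_transfer hT (M := l.ker.map f) (by
    rw [relIndex_map_map_of_injective _ _ h.inj, relIndex_ker, (eq_top_iff' (T.map l)).2 fun a => by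
      rcases (by decide : ∀ a b : Multiplicative (ZMod 2), b ≠ 1 → a = 1 ∨ a = b) a _ x1 with rfl | rfl
      exacts [one_mem _, mem_map_of_mem l hx]]
    simp) (mem_map_of_mem f hx) ((orderOf_injective f h.inj x).trans x2)
    fun g ⟨y, hy, e⟩ => hh y hy (isConj_iff.2 ⟨g, e.symm⟩)
  exact ⟨K, h1, h2⟩

end CM

theorem aut_alt_six_of_fix (ψ : MulAut (alternatingGroup (Fin 6))) {x : alternatingGroup (Fin 6)}
    (hx : orderOf x = 3) (e : ψ x = x) : ∃ σ : Perm (Fin 6), ψ = MulAut.conjNormal σ := by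
  obtain ⟨θ, hθ⟩ := Perm.exists_outer (Ω := Fin 6) (by simp)
  have hθ' : ∀ c : alternatingGroup (Fin 6), c.1.IsThreeCycle → ¬ (Perm.resAlt θ c).1.IsThreeCycle :=
    fun c hc => hθ c hc
  have cj : ∀ (σ : Perm (Fin 6)) (c : alternatingGroup (Fin 6)),
      (MulAut.conjNormal σ c).1.cycleType = c.1.cycleType := fun σ c => Perm.cycleType_conj
  obtain ⟨σ, h | rfl⟩ := Perm.aut_alt_six (by simp) hθ' ψ
  · exact ⟨σ, h⟩
  exfalso
  have x3 : ¬ x.1.IsThreeCycle := fun h => hθ' (MulAut.conjNormal σ x) ((cj σ x).trans h) (by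
    rwa [← MulAut.mul_apply, e])
  let c : alternatingGroup (Fin 6) := ⟨_, (Perm.isThreeCycle_swap_mul_swap_same (a := (0 : Fin 6)) (b := 1) (c := 2)
    (by decide) (by decide) (by decide)).mem_alternatingGroup⟩
  have hc : c.1.IsThreeCycle := Perm.isThreeCycle_swap_mul_swap_same (by decide) (by decide) (by decide)
  have h1 := ((Perm.cycleType_aut_threeCycle _ hc).resolve_left (hθ' c hc)).2
  have h2 : x.1.cycleType = {3, 3} := by
    obtain ⟨n, hn⟩ := Perm.cycleType_prime_order (σ := x.1) (by rw [orderOf_coe, hx]; norm_num)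
    have := Perm.sum_cycleType_le x.1
    rw [orderOf_coe, hx] at hn
    rw [hn, Multiset.sum_replicate, Fintype.card_fin, smul_eq_mul] at this
    obtain rfl | rfl : n = 0 ∨ n = 1 := by omega
    exacts [absurd hn x3, hn]
  obtain ⟨τ, hτ⟩ := isConj_iff.1 (Perm.isConj_iff_cycleType_eq.2 (h1.trans ((cj σ x).trans h2).symm))
  obtain ⟨ρ, h | h⟩ := Perm.aut_alt_six (by simp) hθ' (Perm.resAlt θ)⁻¹
  · exact hθ' _ ((cj ρ⁻¹⁻¹ _).trans hc) (by
      rw [inv_inv, ← h, MulAut.apply_inv_self]; exact hc)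
  apply x3
  have h3 : (Perm.resAlt θ (Perm.resAlt θ c)).1.IsThreeCycle := by
    have := congrArg (fun ψ => Perm.resAlt θ (ψ (MulAut.conjNormal ρ⁻¹ c))) h
    simp only [MulAut.apply_inv_self, MulAut.mul_apply, map_inv] at this
    rw [← this, ← map_inv]
    exact (cj _ c).trans hc
  rw [← e, MulAut.mul_apply, Perm.coe_resAlt, ← hτ, map_mul, map_mul, map_inv]
  exact Perm.cycleType_conj.trans h3

theorem s6_of_a6' [Finite G] {K : Subgroup G} [K.Normal] (e : K ≃* alternatingGroup (Fin 6)) (hK : K.index = 2)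
    (hC : ∀ g ∈ centralizer (K : Set G), g = 1) {t : G} (ht : t ∉ K) {x : K} (hx : orderOf x = 3)
    (hxt : t * x = x * t) : Nonempty (G ≃* Equiv.Perm (Fin 6)) := by
  have hc := K.index_mul_card
  rw [hK, Nat.card_congr e.toEquiv, two_mul_nat_card_alternatingGroup] at hc
  let f : G →* MulAut (alternatingGroup (Fin 6)) := (MulAut.congr e).toMonoidHom.comp MulAut.conjNormal
  have hi := Perm.conjNormal_alt_injective (Ω := Fin 6) (by simp)
  have hf : ∀ g, f g ∈ (MulAut.conjNormal : Equiv.Perm (Fin 6) →* MulAut (alternatingGroup (Fin 6))).range := by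
    have k : ∀ g ∈ K, f g ∈ (MulAut.conjNormal : Equiv.Perm (Fin 6) →* _).range := fun g hg =>
      ⟨e ⟨g, hg⟩, MulEquiv.ext fun y => Subtype.ext (by
        have : MulAut.conjNormal g (e.symm y) = ⟨g, hg⟩ * e.symm y * (⟨g, hg⟩ : K)⁻¹ := rfl
        simp [f, this])⟩
    have k' : f t ∈ (MulAut.conjNormal : Equiv.Perm (Fin 6) →* _).range := (aut_alt_six_of_fix (f t) (x := e x) ((e.orderOf_eq x).trans hx) (by
      have : MulAut.conjNormal t x = x := Subtype.ext (by simp [hxt])
      simp [f, this])).imp fun _ => Eq.symm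
    intro g
    by_cases hg : g ∈ K
    · exact k g hg
    · simpa using mul_mem (k (g * t⁻¹) (by simp [mul_mem_iff_of_index_two hK, hg, ht])) k'
  refine ⟨MulEquiv.ofBijective ((MonoidHom.ofInjective hi).symm.toMonoidHom.comp (f.codRestrict _ hf))
    ((Nat.bijective_iff_injective_and_card _).2 ⟨(MonoidHom.ofInjective hi).symm.injective.comp
      ((injective_iff_map_eq_one (f.codRestrict _ hf)).2 fun g hg => hC g fun x hx => ?_), hc.symm⟩)⟩
  have := congrArg (fun ψ => (e.symm (ψ.1 (e ⟨x, hx⟩)) : G)) hg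
  simpa [f, mul_inv_eq_iff_eq_mul, eq_comm (a := x * g)] using this

abbrev X48 := Multiplicative (ZMod 2) × Perm (Fin 4)
def c0 : X48 := (.ofAdd 1, 1)
def z0 : X48 := (1, swap 0 1 * swap 2 3)
def a0 : X48 := (1, swap 0 2 * swap 1 3)
def b0 : X48 := (1, swap 0 1)
def sg : X48 →* Multiplicative (ZMod 2) where
  toFun x := x.1 * if Perm.sign x.2 = 1 then 1 else .ofAdd 1
  map_one' := by decide
  map_mul' x y := by
    rw [Prod.snd_mul, map_mul, Prod.fst_mul, mul_mul_mul_comm]
    rcases Int.units_eq_one_or (Perm.sign x.2) with e | e <;> rcases Int.units_eq_one_or (Perm.sign y.2) with e' | e' <;>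
      simp [e, e'] <;> decide

set_option synthInstance.maxSize 2048 in
theorem cls48 : ∀ y : X48, y * y = 1 → y = 1 ∨ y = c0 ∨ (∃ k, k * z0 * k⁻¹ = y) ∨ (∃ k, k * (c0 * z0) * k⁻¹ = y) ∨
    (y.1 = 1 ∧ sg y ≠ 1 ∧ ∃ k, k * b0 * k⁻¹ = y) ∨ (y.1 ≠ 1 ∧ sg y = 1 ∧ ∃ k, k * (c0 * b0) * k⁻¹ = y) := by
  decide +kernel

set_option synthInstance.maxSize 2048 in
theorem mul48 : ∀ y : X48, ((∃ k, k * z0 * k⁻¹ = y) ∨ ∃ k, k * (c0 * z0) * k⁻¹ = y) →
    ∀ y' : X48, ((∃ k, k * z0 * k⁻¹ = y') ∨ ∃ k, k * (c0 * z0) * k⁻¹ = y') → y' * y = 1 ∨ y' * y = c0 ∨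
      (∃ k, k * z0 * k⁻¹ = y' * y) ∨ ∃ k, k * (c0 * z0) * k⁻¹ = y' * y := by decide +kernel

def V48 : Subgroup X48 where
  carrier := {x | x * x = 1 ∧ x.1 = 1 ∧ sg x = 1}
  one_mem' := by decide
  mul_mem' {a b} := by
    simp only [Set.mem_setOf_eq]
    revert a b
    set_option synthInstance.maxSize 2048 in decide +kernel
  inv_mem' {a} := by
    simp only [Set.mem_setOf_eq]
    revert a
    decide +kernel

theorem card_V48 : Nat.card V48 = 4 := by
  change Nat.card {x : X48 // x * x = 1 ∧ x.1 = 1 ∧ sg x = 1} = 4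
  rw [Nat.card_eq_fintype_card, Fintype.card_subtype]
  decide +kernel

set_option synthInstance.maxSize 2048 in
theorem mem_V48 : ∀ x : X48, x * x = 1 ∧ x.1 = 1 ∧ sg x = 1 → (x = 1 ∨ x = z0 ∨ x = a0 ∨ x = z0 * a0) ∧
    (x ≠ 1 → ∃ k, k * z0 * k⁻¹ = x) := by decide +kernel

theorem cen48 : ∀ x : X48, a0 * x = x * a0 → (1, swap 0 2 * swap 0 1) * (1, swap 0 2 * swap 0 1) * x =
    x * ((1, swap 0 2 * swap 0 1) * (1, swap 0 2 * swap 0 1)) → x = 1 ∨ x = c0 := by decide +kernel

theorem sq48 : ∀ y : X48, y * y * (y * y) = 1 → y * y = 1 ∨ ∃ k, k * z0 * k⁻¹ = y * y := by decide +kernel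

variable [Finite G] {f : X48 →* G} (h : CM f c0) (hz : ∀ g, g * f z0 = f z0 * g → ∃ x, f x = g)
include h hz

omit [Finite G] in
theorem mem_of_z {g : G} {y : X48} (e : f y = g * f z0 * g⁻¹) (hy : ∃ k, k * z0 * k⁻¹ = y) : ∃ x, f x = g := by
  obtain ⟨k, rfl⟩ := hy
  obtain ⟨x, hx⟩ := hz ((f k)⁻¹ * g) (by
    rw [map_mul, map_mul, map_inv] at e
    calc _ = (f k)⁻¹ * (g * f z0 * g⁻¹) * g := by group
      _ = _ := by rw [← e]; group)
  exact ⟨k * x, by simp [hx]⟩

theorem card_z : Nat.card (centralizer ({f z0} : Set G)) = 16 := by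
  rw [show centralizer {f z0} = (centralizer {z0}).map f from le_antisymm (fun g hg => by
    obtain ⟨x, rfl⟩ := hz g (mem_centralizer_singleton_iff.1 hg)
    exact mem_map_of_mem _ (mem_centralizer_singleton_iff.2 (h.inj (by
      simpa using mem_centralizer_singleton_iff.1 hg)))) (by
    rintro _ ⟨x, hx, rfl⟩
    exact mem_centralizer_singleton_iff.2 (by simpa using congrArg f (mem_centralizer_singleton_iff.1 hx))),
    card_map_of_injective h.inj]
  simp only [mem_centralizer_singleton_iff, Nat.card_eq_fintype_card, Fintype.card_subtype]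
  decide +kernel

theorem not_z : ¬ IsConj (f c0) (f z0) := fun e => by
  have := card_centralizer_eq_of_isConj e
  rw [card_z h hz, h.card] at this
  simp [Fintype.card_perm, Nat.factorial] at this

omit [Finite G] in
theorem not_cz : ¬ IsConj (f c0) (f (c0 * z0)) := fun e => by
  obtain ⟨g, e⟩ := isConj_iff.1 e.symm
  obtain ⟨y, hy⟩ := h.pull e (y := a0 * b0) (by decide)
  have h2 : f (y * y) = g * f z0 * g⁻¹ := by rw [map_mul, hy, conj_mul, ← map_mul]; congr 3; decide
  rcases sq48 y (h.inj (by rw [map_mul, h2, conj_mul, ← map_mul, show z0 * z0 = 1 by decide]; simp)) with e1 | e1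
  · exact absurd (h.inj (a₁ := z0) (a₂ := 1) (by simpa [e1] using h2.symm)) (by decide)
  · exact absurd (h.eq_of_range e (mem_of_z h hz h2 e1)) (by decide)

theorem not_both (h1 : IsConj (f c0) (f b0)) (h2 : IsConj (f c0) (f (c0 * b0))) : False := by
  obtain ⟨g, e⟩ := isConj_iff.1 h1.symm
  have k : ∀ u, u * b0 = b0 * u → u * u = 1 → u ≠ 1 → ¬ IsConj (f c0) (f u) →
      ∃ y, f y = g * f u * g⁻¹ ∧ ((∃ k, k * z0 * k⁻¹ = y) ∨ ∃ k, k * (c0 * z0) * k⁻¹ = y) := fun u u1 u2 u3 u4 => by
    obtain ⟨y, hy⟩ := h.pull e u1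
    have c : IsConj (f u) (f y) := isConj_iff.2 ⟨g, hy.symm⟩
    refine ⟨y, hy, ?_⟩
    rcases cls48 y (h.inj (by rw [map_mul, hy, conj_mul, ← map_mul, u2]; simp)) with rfl | rfl | a | a | a | a
    · exact absurd (h.inj (by simpa using c)) u3
    · exact absurd c.symm u4
    · exact .inl a
    · exact .inr a
    · exact absurd (h1.trans ((CM.conj a.2.2).trans c.symm)) u4
    · exact absurd (h2.trans ((CM.conj a.2.2).trans c.symm)) u4
  obtain ⟨y, hy, a⟩ := k z0 (by decide) (by decide) (by decide) (not_z h hz)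
  obtain ⟨y', hy', a'⟩ := k (c0 * z0) (by decide) (by decide) (by decide) (not_cz h hz)
  have e1 : f (y' * y) = g * f c0 * g⁻¹ := by
    rw [map_mul, hy, hy', conj_mul, ← map_mul]; congr 3; decide
  have c : IsConj (f c0) (f (y' * y)) := isConj_iff.2 ⟨g, e1.symm⟩
  rcases mul48 y a y' a' with a | a | a | a
  · exact absurd (h.inj (a₁ := c0) (a₂ := 1) (by simpa [a] using c)) (by decide)
  · rw [a] at e1
    exact absurd (h.inj (a₁ := b0) (a₂ := c0) (by simpa using e.trans e1)) (by decide)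
  · exact not_z h hz (c.trans (CM.conj a).symm)
  · exact not_cz h hz (c.trans (CM.conj a).symm)

theorem exists_index_two (hT : ¬ 2 ∣ ((centralizer {z0}).map f).index) : ∃ K : Subgroup G, K.index = 2 ∧ f c0 ∉ K := by
  have k : ∀ l : X48 →* Multiplicative (ZMod 2), l c0 ≠ 1 → (∀ y, y * y = 1 → l y = 1 → ¬ IsConj (f c0) (f y)) → _ := fun l l1 hl =>
    h.thompson hT l (mem_centralizer_singleton_iff.2 (h.comm z0).symm) (orderOf_eq_prime (by decide) (by decide)) l1
      fun y hy e => hl y (h.inj (by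
        obtain ⟨g, e⟩ := isConj_iff.1 e
        rw [map_mul, ← e, conj_mul, ← map_mul, show c0 * c0 = 1 by decide]; simp)) hy e
  have c1 : ¬ IsConj (f c0) (f 1) := fun e => absurd (h.inj (a₁ := c0) (a₂ := 1) (by simpa using e)) (by decide)
  by_cases h1 : IsConj (f c0) (f b0)
  · refine k sg (by decide) fun y y2 hy e => ?_
    rcases cls48 y y2 with rfl | rfl | a | a | a | a
    exacts [c1 e, absurd hy (by decide), not_z h hz (e.trans (CM.conj a).symm), not_cz h hz (e.trans (CM.conj a).symm),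
      a.2.1 hy, not_both h hz h1 (e.trans (CM.conj a.2.2).symm)]
  · refine k (MonoidHom.fst _ _) (by decide) fun y y2 hy e => ?_
    rcases cls48 y y2 with rfl | rfl | a | a | a | a
    exacts [c1 e, absurd hy (by decide), not_z h hz (e.trans (CM.conj a).symm), not_cz h hz (e.trans (CM.conj a).symm),
      h1 (e.trans (CM.conj a.2.2).symm), a.1 hy]

theorem odd_eq_bot {N : Subgroup G} (hN : (Nat.card N).Coprime 2) (h1 : f z0 ∈ normalizer (N : Set G))
    (h2 : f a0 ∈ normalizer (N : Set G)) : N = ⊥ := by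
  by_contra h0
  have c : Nat.card (V48.map f) = 4 := by
    rw [card_map_of_injective h.inj]
    exact card_V48
  haveI := Fact.mk Nat.prime_two
  have := IsPGroup.isMulCommutative_of_card_eq_prime_sq (p := 2) c
  obtain ⟨_, ⟨x, hx, rfl⟩, x1, h3⟩ := Coprime.exists_inf_centralizer_ne_bot (V48.map f) N (fun hc => by
    obtain ⟨⟨_, x, hx, rfl⟩, hg⟩ := hc.exists_ofOrder_eq_natCard
    have := Nat.le_of_dvd two_pos (orderOf_dvd_of_pow_eq_one (x := f x) (by rw [sq, ← map_mul, hx.1, map_one]))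
    rw [← orderOf_coe, c] at hg
    exact absurd (hg.symm.trans_le this) (by norm_num)) (by
      rintro _ ⟨x, hx, rfl⟩
      rcases (mem_V48 x hx).1 with rfl | rfl | rfl | rfl
      exacts [by simp, h1, h2, by simpa using mul_mem h1 h2]) (by rw [c]; exact hN.symm.pow_left 2) h0
  refine h3 (card_eq_one.1 (Nat.eq_one_of_dvd_coprimes (hN.pow_right 4) (card_dvd_of_le inf_le_left) ?_))
  have := card_centralizer_eq_of_isConj (CM.conj (f := f) ((mem_V48 x hx).2 (by rintro rfl; simp at x1)))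
  exact (card_dvd_of_le inf_le_right).trans (this.symm.trans (card_z h hz)).dvd

theorem main48 (hT : ¬ 2 ∣ ((centralizer {z0}).map f).index) :
    centralizer {f c0} = ⊤ ∨ Nonempty (G ≃* Perm (Fin 6)) := by
  refine or_iff_not_imp_left.2 fun hC => ?_
  obtain ⟨K, hK, tK⟩ := exists_index_two h hz hT
  have nK := normal_of_index_eq_two hK
  have cK := hK ▸ K.index_mul_card
  have sq : ∀ x, f (x * x) ∈ K := fun x => by simp [mul_mem_iff_of_index_two hK]
  have zK : f z0 ∈ K := (by decide : z0 = a0 * b0 * (a0 * b0)) ▸ sq _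
  have aK : f a0 ∈ K := (by decide : a0 = (1, swap 0 2) * z0 * ((1, swap 0 2) * z0)) ▸ sq _
  have c48 : Nat.card (centralizer ({f c0} : Set G)) = 48 := by simp [h.card, Fintype.card_perm, Nat.factorial]
  obtain ⟨y, hy, y2⟩ : ∃ y, IsConj (f c0) (f y) ∧ (y = b0 ∨ y = c0 * b0) := by
    by_contra! hh
    have k : pPrimeCore 2 G = ⊥ := odd_eq_bot h hz Solv.pPrimeCore_coprime (by simp [normalizer_eq_top])
      (by simp [normalizer_eq_top])
    apply hC
    rw [← bot_sup_eq (centralizer _), ← k]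
    refine isolated_sup_centralizer (z := f c0) ⟨(orderOf_injective f h.inj _).trans
      (orderOf_eq_prime (by decide) (by decide)), fun g hg => ?_⟩
    obtain ⟨y, hy⟩ := (h.rng _).1 hg.symm.eq
    have e : IsConj (f c0) (f y) := isConj_iff.2 ⟨g, hy.symm⟩
    rcases cls48 y (h.inj (by rw [map_mul, hy, conj_mul, ← map_mul, show c0 * c0 = 1 by decide]; simp)) with
      rfl | rfl | a | a | a | a
    exacts [absurd (h.inj (a₁ := c0) (a₂ := 1) (by simpa using e)) (by decide), hy.symm,
      absurd (e.trans (CM.conj a).symm) (not_z h hz), absurd (e.trans (CM.conj a).symm) (not_cz h hz),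
      absurd rfl (hh _ (e.trans (CM.conj a.2.2).symm)).1, absurd rfl (hh _ (e.trans (CM.conj a.2.2).symm)).2]
  let j : {x // x = c0 ∨ ∃ k, k * y * k⁻¹ = x} → {x // IsConj (f c0) x} := fun x =>
    ⟨f x, x.2.elim (fun e => by rw [e]) fun e => hy.trans (CM.conj e)⟩
  have hj : Function.Injective j := fun a b e => Subtype.ext (h.inj (congrArg Subtype.val e))
  have c7 : Nat.card {x // x = c0 ∨ ∃ k, k * y * k⁻¹ = x} = 7 := by
    rw [Nat.card_eq_fintype_card, Fintype.card_subtype]
    rcases y2 with rfl | rfl <;> decide +kernel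
  have l := c7 ▸ Nat.card_le_card_of_injective j hj
  have cc := c48 ▸ card_class_mul_card_centralizer (f c0)
  obtain ⟨s, hs, s1⟩ : ∃ s, f s ∈ K ∧ (s = b0 ∨ s = c0 * b0) := by
    by_cases e : f b0 ∈ K
    exacts [⟨_, e, .inl rfl⟩, ⟨_, by simp [mul_mem_iff_of_index_two hK, e, tK], .inr rfl⟩]
  obtain ⟨r, hr⟩ : ∃ r : K, r = f (a0 * s) := ⟨⟨_, by simpa using mul_mem aK hs⟩, rfl⟩
  obtain ⟨s', hs'⟩ : ∃ r : K, r = f s := ⟨⟨_, hs⟩, rfl⟩
  have o4 : orderOf r = 4 := by
    rw [← orderOf_coe, hr, orderOf_injective f h.inj]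
    exact orderOf_eq_prime_pow (p := 2) (n := 1) (by rcases s1 with rfl | rfl <;> decide)
      (by rcases s1 with rfl | rfl <;> decide)
  have nm : s' ∉ zpowers r := fun e => by
    obtain ⟨i, e⟩ := mem_zpowers_iff.1 e
    have := congrArg Subtype.val ((Commute.refl r).zpow_right i).eq
    rw [e, coe_mul, coe_mul, hr, hs', ← map_mul, ← map_mul] at this
    exact absurd (h.inj this) (by rcases s1 with rfl | rfl <;> decide)
  obtain ⟨e⟩ := nonempty_closure_equiv_dihedral o4 (t := s')
    (Subtype.ext (by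
      rw [coe_mul, hs', ← map_mul, show s * s = 1 by rcases s1 with rfl | rfl <;> decide]; simp))
    (Subtype.ext (by
      rw [coe_mul, coe_mul, coe_inv, coe_inv, hs', hr, ← map_inv, ← map_inv, ← map_mul, ← map_mul]
      congr 1; rcases s1 with rfl | rfl <;> decide)) nm
  have c8 : Nat.card (centralizer ({⟨f z0, zK⟩} : Set K)) = 8 := by
    have h1 := relIndex_dvd_index_of_normal K (centralizer {f z0})
    have h2 := (K.subgroupOf (centralizer {f z0})).index_mul_card
    rw [hK, Nat.dvd_prime Nat.prime_two, relIndex_eq_one, or_iff_right fun e => tK (e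
      (mem_centralizer_singleton_iff.2 ((h.rng _).2 ⟨z0, rfl⟩).symm)), relIndex] at h1
    rw [h1, card_z h hz, ← inf_subgroupOf_right, Nat.card_congr (subgroupOfEquivOfLe inf_le_right).toEquiv, inf_comm,
      ← Nat.card_congr (subgroupOfEquivOfLe inf_le_right).toEquiv, inf_subgroupOf_right] at h2
    rw [show centralizer {⟨f z0, zK⟩} = (centralizer {f z0}).subgroupOf K by
      ext; simp [mem_subgroupOf, mem_centralizer_singleton_iff, Subtype.ext_iff]]
    omega
  have ec : closure {s', r} = centralizer {⟨f z0, zK⟩} := eq_of_le_of_card_ge ((closure_le _).2 (by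
    rintro _ (rfl | rfl) <;> refine mem_centralizer_singleton_iff.2 (Subtype.ext ?_) <;>
      simp only [coe_mul, hr, hs', ← map_mul] <;> congr 1 <;> rcases s1 with rfl | rfl <;> decide))
    (by rw [c8, Nat.card_congr e.toEquiv, DihedralGroup.nat_card])
  have key : ∀ [IsSimpleGroup K] (N : Subgroup G) [N.Normal], N ≤ centralizer {f c0} → ∀ k ∈ N, k ∈ K → k = 1 :=
    fun N _ hN k h1 h2 => by
    rcases (Normal.subgroupOf inferInstance K : (N.subgroupOf K).Normal).eq_bot_or_eq_top with e | e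
    · simpa using e.le (x := ⟨k, h2⟩) h1
    · have := card_le_of_le ((subgroupOf_eq_top.1 e).trans hN)
      omega
  rcases Cfsg.Agent.S3035.result (⟨f z0, zK⟩ : K) ((orderOf_coe _).symm.trans ((orderOf_injective f h.inj z0).trans
    (orderOf_eq_prime (by decide) (by decide)))) ⟨ec ▸ e⟩ with e | ⟨⟨e⟩⟩ | ⟨⟨e⟩⟩ | ⟨⟨e⟩⟩ | ⟨⟨e⟩⟩
  · have k := (normal_subgroupOf_iff_le_normalizer (map_subtype_le (pPrimeCore 2 K))).1
      (by rw [subgroupOf, comap_map_eq_self_of_injective K.subtype_injective]; infer_instance)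
    rw [oddCore, (map_eq_bot_iff_of_injective _ K.subtype_injective).1 (odd_eq_bot h hz
      (Solv.coprime_card_map_pPrimeCore K) (k zK) (k aK)), sup_bot_eq] at e
    rw [e, card_top] at c8
    omega
  · have := Nat.card_congr e.toEquiv
    rw [Nat.card_perm, Nat.card_eq_fintype_card (α := Fin _), Fintype.card_fin] at this
    simp only [Nat.factorial] at this
    omega
  · have := Nat.card_congr e.toEquiv
    rw [Nat.card_perm, Nat.card_eq_fintype_card (α := Fin _), Fintype.card_fin] at this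
    simp only [Nat.factorial] at this
    omega
  · have h5 : center (Matrix.SpecialLinearGroup (Fin 3) (ZMod 2)) = ⊥ := by
      rw [← card_eq_one, Classical.card_center_SL]; simp
    have := Classical.isSimpleGroup_PSL_of_three_le (ι := Fin 3) (F := ZMod 2) le_rfl
    have := (e.trans ((QuotientGroup.quotientMulEquivOfEq h5).trans QuotientGroup.quotientBot).symm).isSimpleGroup
    have c := Classical.card_SL_fin (F := ZMod 2) 3 (by norm_num)
    rw [← Nat.card_congr e.toEquiv] at c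
    simp only [ZMod.card, Fin.prod_univ_three] at c
    have hj' := ((Nat.bijective_iff_injective_and_card j).2 ⟨hj, by norm_num at c; omega⟩).2
    have m : f c0 ∈ normalClosure {f c0} := subset_normalClosure rfl
    obtain ⟨g, hg⟩ := isConj_iff.1 hy
    have := key (normalClosure {f c0}) ((closure_le _).2 fun x hx => by
      obtain ⟨x, e⟩ := hj' ⟨x, by simpa [Group.mem_conjugatesOfSet_iff] using hx⟩
      exact mem_centralizer_singleton_iff.2 ((h.rng _).2 ⟨x, congrArg Subtype.val e⟩)) (f (c0 * y))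
      (by rw [map_mul, ← hg]; exact mul_mem m (Normal.conj_mem inferInstance _ m g))
      (by simp [mul_mem_iff_of_index_two hK, ← hg, tK])
    exact absurd (h.inj (this.trans (map_one f).symm)) (by rcases y2 with rfl | rfl <;> decide)
  have := alternatingGroup.isSimpleGroup (α := Fin 6) (by simp)
  have := e.isSimpleGroup
  have k1 : ∀ g ∈ centralizer (K : Set G), g ∈ K → g = 1 := fun g hg hg' => by
    rcases (Normal.subgroupOf inferInstance K : ((centralizer (K : Set G)).subgroupOf K).Normal).eq_bot_or_eq_top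
      with e | e
    · simpa using e.le (x := ⟨g, hg'⟩) hg
    · have := subgroupOf_eq_top.1 e hs _ aK
      rw [← map_mul, ← map_mul] at this
      exact absurd (h.inj this) (by rcases s1 with rfl | rfl <;> decide)
  refine s6_of_a6' e hK (fun g hg => by_contra fun g1 => ?_) tK
    (x := ⟨f (1, swap 0 1 * swap 0 2), (by decide : ((1, swap 0 1 * swap 0 2) : X48) =
      (1, swap 0 2 * swap 0 1) * (1, swap 0 2 * swap 0 1)) ▸ sq _⟩)
    ((orderOf_coe _).symm.trans ((orderOf_injective f h.inj _).trans (orderOf_eq_prime (by decide) (by decide))))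
    ((h.rng _).2 ⟨_, rfl⟩).symm
  have g2 : g ∉ K := fun e => g1 (k1 g hg e)
  have := k1 (g⁻¹ * (f c0 * g * (f c0)⁻¹)) (mul_mem (inv_mem hg) (Normal.conj_mem inferInstance _ hg _))
    (by simp [mul_mem_iff_of_index_two hK, g2, tK])
  obtain ⟨x, rfl⟩ := (h.rng g).1 (by rw [inv_mul_eq_one, eq_mul_inv_iff_mul_eq] at this; exact this)
  have e2 := hg _ (sq (1, swap 0 2 * swap 0 1))
  have e3 := hg _ aK
  rw [← map_mul, ← map_mul] at e2 e3
  rcases cen48 x (h.inj e3) (h.inj e2) with rfl | rfl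
  · exact g1 (map_one f)
  refine hC (eq_top_iff.2 fun g _ => mem_centralizer_singleton_iff.2 ?_)
  by_cases e : g ∈ K
  · exact hg g e
  · have := hg (g * f c0) (by simp [mul_mem_iff_of_index_two hK, e, tK])
    rwa [← mul_assoc, mul_left_inj] at this

end CF.Char.IC
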