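import Cfsg.Agent.Char.More
import Cfsg.Agent.BG.B12

/-!
Counting conjugacy classes of `GV`.
-/

set_option autoImplicit false

namespace CF.Char

open Cfsg Subgroup CF.BG
open scoped commutatorElement IsMulCommutative

variable {X : Type*} [Group X] [Finite X] {V G : Subgroup X}

theorem card_comm_lifts [hV : V.Normal] (hab : Abel V) {g h : X} (c : Commute g h)
    (cop : (♯(closure {g, h})).Coprime (♯V)) :
    Nat.card {x : V × V // Commute (x.1 * g) (x.2 * h)} = ♯V * ♯(V ⊓ 𝐂 (closure {g, h})) := by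
  have := hab.comm
  let f : X → V →* V := fun g => (MulAut.conjNormal g : V ≃* V).toMonoidHom * (MonoidHom.id V)⁻¹
  have hf : ∀ g v, (f g v).1 = ⁅g, v.1⁆ := fun g v => rfl
  let φ : V × V →* V := ((f h).comp (.fst V V))⁻¹ * (f g).comp (.snd V V)
  have a : Nat.card {x : V × V // Commute (x.1 * g) (x.2 * h)} = Nat.card φ.ker :=
    Nat.card_congr (Equiv.subtypeEquivRight fun x => by
      rw [MonoidHom.mem_ker, show φ x = (f h x.1)⁻¹ * f g x.2 from rfl, inv_mul_eq_one,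
        Subtype.ext_iff, hf, hf, commute_iff_eq, ← mul_left_inj ((x.1 * x.2 : X) * (g * h)) (b := ⁅_, _⁆),
        eq_comm]
      refine Eq.congr ?_ ?_
      · rw [c.eq, commutatorElement_def, ← mul_assoc (_ * _⁻¹), ← mul_assoc (_ * _⁻¹),
          inv_mul_cancel_right, hab.mul_comm (hV.conj_mem _ x.1.2 h) x.2.2]
        group
      · rw [hab.mul_comm x.1.2 x.2.2, commutatorElement_def, ← mul_assoc (_ * _⁻¹),
          ← mul_assoc (_ * _⁻¹), inv_mul_cancel_right, hab.mul_comm (hV.conj_mem _ x.2.2 g) x.1.2]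
        group)
  have b : φ.range.map V.subtype = ⁅V, closure {g, h}⁆ := by
    refine le_antisymm ?_ (commutator_le.2 fun v hv y hy => ?_)
    · rintro _ ⟨_, ⟨x, rfl⟩, rfl⟩
      rw [commutator_comm]
      exact mul_mem (inv_mem (commutator_mem_commutator (subset_closure (by simp)) x.1.2))
        (commutator_mem_commutator (subset_closure (by simp)) x.2.2)
    rw [← commutatorElement_inv]
    refine inv_mem ?_
    induction hy using closure_induction generalizing v with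
    | mem y hy =>
      obtain rfl | rfl := hy
      · exact ⟨_, ⟨(1, ⟨v, hv⟩), rfl⟩, by simp [φ, hf]⟩
      · exact inv_mem_iff.1 ⟨_, ⟨(⟨v, hv⟩, 1), rfl⟩, by simp [φ, hf]⟩
    | one => simp
    | mul y z _ _ a b =>
      rw [show ⁅y * z, v⁆ = ⁅y, z * v * z⁻¹⁆ * ⁅z, v⁆ by group]
      exact mul_mem (a _ (hV.conj_mem _ hv z)) (b v hv)
    | inv y _ a =>
      rw [show ⁅y⁻¹, v⁆ = ⁅y, y⁻¹ * v * y⁻¹⁻¹⁆⁻¹ by group]
      exact inv_mem (a _ (hV.conj_mem _ hv _))
  have d := (hab.dprod_cent_comm le_normalizer_of_normal cop).card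
  have e := φ.ker.card_mul_index
  rw [index_ker, Nat.card_prod, ← card_map_of_injective V.subtype_injective, b] at e
  refine Nat.eq_of_mul_eq_mul_right (Nat.card_pos (α := ↥⁅V, closure {g, h}⁆)) ?_
  rw [a, e, mul_assoc, d]

theorem card_subtype_prod {α β : Type*} [Fintype α] [Finite β] (p : α → β → Prop) :
    Nat.card {x : α × β // p x.1 x.2} = ∑ a, Nat.card {b // p a b} := by
  rw [Nat.card_congr (Equiv.subtypeProdEquivSigmaSubtype p), Nat.card_sigma]

theorem card_classes_mul [V.Normal] (hab : Abel V) (c : IsComplement' V G)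
    (cop : (♯V).Coprime (♯G)) [Fintype V] : Nat.card (ConjClasses X) * ♯G =
      ∑ v : V, Nat.card (ConjClasses (G ⊓ 𝐂₁ v.1 : Subgroup X)) * ♯(G ⊓ 𝐂₁ v.1) := by
  have := Fintype.ofFinite G
  let e := Equiv.ofBijective _ c
  have a : ∀ v : V, Nat.card (ConjClasses (G ⊓ 𝐂₁ v.1 : Subgroup X)) * ♯(G ⊓ 𝐂₁ v.1) =
      Nat.card {y : G × G // Commute y.1 y.2 ∧ v.1 ∈ 𝐂 (closure {y.1.1, y.2.1})} := fun v => by
    rw [← card_comm_eq_card_conjClasses_mul_card]
    refine Nat.card_congr (Equiv.ofBijective (fun z => ⟨(⟨_, z.1.1.2.1⟩, ⟨_, z.1.2.2.1⟩),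
      Subtype.ext (congrArg (fun t : (G ⊓ 𝐂₁ v.1 : Subgroup X) => t.1) z.2.eq), ?_⟩)
        ⟨fun a b e => ?_, fun ⟨y, a, b⟩ => ?_⟩)
    · rw [centralizer_closure]
      rintro _ (rfl | rfl)
      exacts [mem_cent1.1 z.1.1.2.2, mem_cent1.1 z.1.2.2.2]
    · exact Subtype.ext (Prod.ext (Subtype.ext (congrArg (fun t => t.1.1.1) e))
        (Subtype.ext (congrArg (fun t => t.1.2.1) e)))
    · rw [centralizer_closure] at b
      exact ⟨⟨(⟨y.1, y.1.2, mem_cent1.2 (b _ (by simp))⟩, ⟨y.2, y.2.2, mem_cent1.2 (b _ (by simp))⟩),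
        Subtype.ext (congrArg (fun t : G => t.1) a.eq)⟩, rfl⟩
  refine Nat.eq_of_mul_eq_mul_left (Nat.card_pos (α := V)) ?_
  rw [mul_left_comm, c.card_mul_card, ← card_comm_eq_card_conjClasses_mul_card, ← Nat.card_congr
    (Equiv.subtypeEquiv (p := fun z : (G × G) × V × V => Commute (z.2.1 * z.1.1 : X) (z.2.2 * z.1.2))
      (((Equiv.prodComm _ _).trans (Equiv.prodProdProdComm _ _ _ _)).trans (e.prodCongr e))
        fun _ => Iff.rfl), card_subtype_prod fun (y : G × G) (x : V × V) => Commute (x.1 * y.1 : X)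
          (x.2 * y.2), Finset.sum_congr rfl fun v _ => a v, ← card_subtype_prod fun (v : V) (y : G × G) => Commute y.1 y.2 ∧ v.1 ∈
              𝐂 (closure {y.1.1, y.2.1}), Nat.card_congr
            (Equiv.subtypeEquiv (p := fun x : V × G × G => Commute x.2.1 x.2.2 ∧ x.1.1 ∈
              𝐂 (closure {x.2.1.1, x.2.2.1})) (q := fun z : (G × G) × V => Commute z.1.1 z.1.2 ∧ z.2.1 ∈
              𝐂 (closure {z.1.1.1, z.1.2.1})) (Equiv.prodComm _ _) fun _ => Iff.rfl),
    card_subtype_prod fun (y : G × G) (v : V) => Commute y.1 y.2 ∧ v.1 ∈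
      𝐂 (closure {y.1.1, y.2.1}), Finset.mul_sum]
  refine Finset.sum_congr rfl fun y _ => ?_
  by_cases k : Commute y.1 y.2
  · rw [card_comm_lifts hab (congrArg (fun t : G => t.1) k.eq) (coprime_mono cop le_rfl
      ((closure_le _).2 (by simp [Set.insert_subset_iff]))).symm, ← Nat.card_congr
        (subgroupOfEquivOfLe (inf_le_left (a := V))).toEquiv, inf_subgroupOf_left]
    simp only [k, true_and]
    rfl
  · have : IsEmpty {x : V × V // Commute (x.1 * y.1 : X) (x.2 * y.2)} := ⟨fun x => k (by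
      refine commutatorElement_eq_one_iff_commute.1 (Subtype.ext (mem_bot.1 (c.disjoint.le_bot
        ⟨(QuotientGroup.eq_one_iff _).1 ?_, ⁅y.1, y.2⁆.2⟩)))
      have := congrArg (QuotientGroup.mk' V) (commutatorElement_eq_one_iff_commute.2 x.2)
      simpa [commutatorElement_def, (QuotientGroup.eq_one_iff _).2 x.1.1.2,
        (QuotientGroup.eq_one_iff _).2 x.1.2.2] using this)⟩
    simp [k]

theorem card_conjClasses_congr {A B : Type*} [Group A] [Group B] (e : A ≃* B) :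
    Nat.card (ConjClasses A) = Nat.card (ConjClasses B) :=
  Nat.card_congr (Quotient.congr e.toEquiv fun a b => ⟨fun h => e.toMonoidHom.map_isConj h,
    fun h => show IsConj a b by simpa using e.symm.toMonoidHom.map_isConj h⟩)

theorem card_classes_eq_sum [hV : V.Normal] (hab : Abel V) (c : IsComplement' V G)
    (cop : (♯V).Coprime (♯G)) (S : Finset X) (hSV : ∀ s ∈ S, s ∈ V)
    (hrep : ∀ v ∈ V, ∃! s, s ∈ S ∧ ∃ g ∈ G, g * v * g⁻¹ = s) : Nat.card (ConjClasses X) =
      ∑ s ∈ S, Nat.card (ConjClasses (G ⊓ 𝐂₁ s : Subgroup X)) := by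
  classical
  have := Fintype.ofFinite V
  have := Fintype.ofFinite G
  refine Nat.eq_of_mul_eq_mul_right (Nat.card_pos (α := G)) ?_
  have a : ∀ v : V, Nat.card (ConjClasses (G ⊓ 𝐂₁ v.1 : Subgroup X)) * ♯(G ⊓ 𝐂₁ v.1) =
      ∑ s ∈ S, ∑ g : G, if g.1 * v * g.1⁻¹ = s then
        Nat.card (ConjClasses (G ⊓ 𝐂₁ s : Subgroup X)) else 0 := fun v => by
    obtain ⟨s, ⟨hs, g, hg, e⟩, u⟩ := hrep v v.2
    have b : cj g (G ⊓ 𝐂₁ v.1) = G ⊓ 𝐂₁ s := by rw [cj_inf, cj_of_mem hg, cj_cent1, e]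
    rw [Finset.sum_eq_single_of_mem s hs fun t ht ne => Finset.sum_eq_zero fun (h : G) _ =>
      if_neg fun k => ne (u t ⟨ht, h, h.2, k⟩), ← Finset.sum_filter, Finset.sum_const, smul_eq_mul,
      mul_comm, ← b, cj_def, ← card_conjClasses_congr (equivMapOfInjective _ _ (conj_inj g)),
      ← Nat.card_eq_finsetCard]
    congr 1
    refine Nat.card_congr (Equiv.ofBijective (fun x => ⟨⟨g * x.1, mul_mem hg x.2.1⟩, ?_⟩)
      ⟨fun x y h => Subtype.ext (mul_left_cancel (congrArg (fun t => t.1.1) h)), fun y => ?_⟩)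
    · simp only [Finset.mem_filter, Finset.mem_univ, true_and]
      rw [← e, mul_assoc g, mem_cent1.1 x.2.2]
      group
    · refine ⟨⟨g⁻¹ * y.1.1, mem_inf.2 ⟨mul_mem (inv_mem hg) y.1.2, mem_cent1.2 ?_⟩⟩, Subtype.ext (Subtype.ext
        (mul_inv_cancel_left _ _))⟩
      have := (Finset.mem_filter.1 y.2).2.trans e.symm
      calc _ = g⁻¹ * (y.1.1 * v * y.1.1⁻¹) * y.1.1 := by group
        _ = _ := by rw [this]; group
  rw [card_classes_mul hab c cop, Finset.sum_congr rfl fun v _ => a v, Finset.sum_comm,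
    Finset.sum_mul]
  refine Finset.sum_congr rfl fun s hs => ?_
  rw [Finset.sum_comm, Nat.card_eq_fintype_card (α := G), mul_comm, ← smul_eq_mul,
    ← Finset.card_univ, ← Finset.sum_const]
  refine Finset.sum_congr rfl fun g _ => ?_
  rw [Finset.sum_eq_single ⟨g.1⁻¹ * s * g.1⁻¹⁻¹, hV.conj_mem _ (hSV s hs) _⟩ (fun v _ ne => if_neg
    fun k => ne (Subtype.ext (show v.1 = g.1⁻¹ * s * g.1⁻¹⁻¹ by rw [← k]; group))) (by simp), if_pos (by group)]

end CF.Char
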