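import Cfsg.Agent.Char.McKay1
import Cfsg.Agent.Solv.PiSep

/-! The relative McKay equality for `p`-solvable groups. -/

namespace CF.Char

open Cfsg CF.Clifford CF.BG Subgroup
open scoped ComplexConjugate commutatorElement

universe u

variable {p : ℕ}

namespace MSet

variable {G : Type u} [Group G] [Finite G] {O S W C V : Subgroup G} (h : MSet p O S W C V)
include h

omit [Finite G] in
theorem VN : V ≤ 𝐍 S := h.eV ▸ sup_le (norm_of_cent h.cS) (le_norm_self S)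

omit [Finite G] in
theorem inf_norm : W ⊓ 𝐍 S = V := by
  rw [← h.eW, sup_inf_right (le_norm_self S) (Or.inr h.n), ← h.eV, h.eC]
  congr 1
  exact le_antisymm (le_inf inf_le_left (h.hO.inf_left.cent_of_norm
    h.hS.compl_compl inf_le_right (norm_inf h.n (norm_of_le (le_norm_self S)))))
    (inf_le_inf_left _ (cent_le_norm S))

variable [hO : O.Normal]

theorem nV : ∀ t ∈ 𝐍 S, ∀ v ∈ V, t * v * t⁻¹ ∈ V := fun _ ht _ =>
  conj_mem_of_norm (h.normV ((normalIn_top.2 hO).norm trivial) ht)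

variable [hW : W.Normal]

theorem cj_iff {ψ ψ' : W → ℂ} {φ φ' : V → ℂ} (a : IsIrrCharacter W ψ) (a' : IsIrrCharacter W ψ')
    (b : IsIrrCharacter V φ) (b' : IsIrrCharacter V φ') (c : ¬ p ∣ charDegree ψ)
    (c' : ¬ p ∣ charDegree ψ') (d : ¬ p ∣ charDegree φ) (d' : ¬ p ∣ charDegree φ')
    (r : h.Rel ψ φ) (r' : h.Rel ψ' φ') (n : 𝐍 S) :
    (NormalEmb.sub W).cj ψ n = ψ' ↔ (NormalEmb.ofLe h.VN h.nV).cj φ n = φ' := by
  have k : h.Rel ((NormalEmb.sub W).cj ψ n) ((NormalEmb.ofLe h.VN h.nV).cj φ n) :=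
    r.conj a b ((normalIn_top.2 hO).norm trivial) n.2
  have c1 := charDegree_congr ((NormalEmb.sub W).cj_apply_one ψ n)
  have d1 := charDegree_congr ((NormalEmb.ofLe h.VN h.nV).cj_apply_one φ n)
  exact ⟨fun e => h.bij.uniq _ _ _ a' (NormalEmb.cj_irr _ b n) b' c' (d1 ▸ d) d' (e ▸ k) r',
    fun e => h.bij.inj _ _ _ (NormalEmb.cj_irr _ a (n : G)) a' b' (c1 ▸ c) c' d' (e ▸ k) r'⟩

omit h hO in
theorem frattini (l : S ≤ W) (hS : Syl p S ⊤) (g : G) : ∃ a ∈ W, ∃ b ∈ 𝐍 S, a * b = g := by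
  simpa using (hS.of_le l le_top).syl_frattini (normalIn_top.2 hW) (mem_top g)

theorem cnt_eq (hS : Syl p S ⊤) {ψ : W → ℂ} {φ : V → ℂ} (a : IsIrrCharacter W ψ)
    (b : IsIrrCharacter V φ) (c : ¬ p ∣ charDegree ψ) (d : ¬ p ∣ charDegree φ) (r : h.Rel ψ φ) :
    cnt 0 W.subtype ψ = cnt 0 (inclusion h.VN) φ := by
  let E := NormalEmb.sub W
  let E₁ := NormalEmb.ofLe h.VN h.nV
  let π := QuotientGroup.mk' W
  have kπ : π.ker = W := QuotientGroup.ker_mk' W
  have i : ∀ n : 𝐍 S, (n : G) ∈ E.inertia ψ ↔ n ∈ E₁.inertia φ := h.cj_iff a a b b c c d d r r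
  have lW : W ≤ E.inertia ψ := fun w hw => E.ι_mem_inertia (irr_isClassFunction a) ⟨w, hw⟩
  refine cnt_eq_of_ext E E₁ a b π (π.comp (Subgroup.subtype _)) (by simp [kπ, E]) ?_ ?_ ?_
  · rw [← MonoidHom.comap_ker, kπ, show E₁.ι.range = V.subgroupOf _ from inclusion_range h.VN,
      ← h.inf_norm]
    exact (inf_subgroupOf_right _ _).symm
  · refine le_antisymm ?_ ?_
    · rintro _ ⟨g, hg, rfl⟩
      obtain ⟨w, hw, n, hn, rfl⟩ := frattini h.SW hS g
      refine ⟨⟨n, hn⟩, (i _).1 ((mul_mem_cancel_left (lW hw)).1 hg), ?_⟩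
      simp [show π w = 1 from kπ.ge hw]
    · rintro _ ⟨n, hn, rfl⟩
      exact ⟨n, (i n).2 hn, rfl⟩
  intro x hx y hy cm
  rw [← comap_comap, ← extTo_map (subtype_injective _) (j := V.subtype) fun _ => rfl,
    map_comap_eq, range_subtype]
  obtain ⟨U, hU⟩ : ∃ U, U = (closure {x, y}).comap π := ⟨_, rfl⟩
  rw [← hU]
  have u1 : W ≤ U := kπ.ge.trans ((ker_le_comap π _).trans hU.ge)
  have u2 : U ≤ E.inertia ψ := by
    rw [hU, ← comap_map_eq_self (f := π) (H := E.inertia ψ) (kπ.le.trans lW)]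
    exact comap_mono ((closure_le _).2 (by rintro _ (rfl | rfl); exacts [hx, hy]))
  have u3 : ⁅U, U⁆ ≤ W := by
    rw [commutator_le]
    intro s hs t ht
    rw [← kπ, MonoidHom.mem_ker, map_commutatorElement, commutatorElement_eq_one_iff_mul_comm]
    have : Abel (closure {x, y}) := by
      rw [← Set.singleton_union, Subgroup.closure_union]
      refine (abel_zpowers x).sup (abel_zpowers y) ?_ |>.mono
        (sup_le_sup (by simp) (by simp))
      rw [cent_zpowers, zpowers_le, mem_cent1, cm.eq]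
    exact this.mul_comm (hU.le hs) (hU.le ht)
  have s1 : S ≤ 𝐍 S ⊓ U := le_inf (le_norm_self S) (h.SW.trans u1)
  obtain ⟨H, sd, hH⟩ := (hS.of_le s1 le_top).exists_compl inf_le_left
  have nO : ∀ X : Subgroup G, X ≤ 𝐍 O := fun X => le_top.trans (normalIn_top.2 hO).norm
  have nW : ∀ X : Subgroup G, X ≤ 𝐍 W := fun X => le_top.trans (normalIn_top.2 hW).norm
  have v1 : V ≤ 𝐍 S ⊓ U := le_inf h.VN (h.VW.trans u1)
  have nC : C ⊴ 𝐍 S ⊓ U := ⟨h.CV.trans v1, fun g hg => h.normC (nO ⊤ trivial) hg.1⟩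
  have nV : V ⊴ 𝐍 S ⊓ U := ⟨v1, fun g hg => h.normV (nO ⊤ trivial) hg.1⟩
  have lC : C ≤ H := hH.le_of_normal nC h.hC
  have hN : H ≤ 𝐍 S := hH.le.trans inf_le_left
  have hU' : H ≤ U := hH.le.trans inf_le_right
  have eU : W ⊔ H = U := le_antisymm (sup_le u1 hU') fun g hg => by
    obtain ⟨w, hw, n, hn, rfl⟩ := frattini h.SW hS g
    exact mul_mem (mem_sup_left hw) ((sd.sup.ge.trans (sup_le_sup_right h.SW H))
      ⟨hn, (mul_mem_cancel_left (u1 hw)).1 hg⟩)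
  have eU' : O ⊔ H ⊔ S = U := by rw [← eU, ← h.eW, sup_right_comm]
  have dH : ⁅H, H⁆ ≤ C := by
    have : H ⊓ V = C := by
      rw [← h.eV, inf_sup_left lC (Or.inr h.nC), sd.inf', sup_bot_eq]
    rw [← this, ← h.inf_norm]
    exact le_inf (der_le H) (le_inf ((der_mono hU').trans u3) ((der_le H).trans hN))
  have iU : AInv W U ψ := fun g hg w w' e =>
    (congrArg ψ (Subtype.ext e)).trans (E.mem_inertia'.1 (u2 hg) w)
  have iV : AInv V (𝐍 S ⊓ U) φ := fun g hg w w' e =>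
    (congrArg φ (Subtype.ext e)).trans (E₁.mem_inertia'.1 ((i ⟨g, hg.1⟩).1 (u2 hg.2)) w)
  refine (extTo_iff_pindex h.hp h.OW ⟨h.OW.trans u1, nO U⟩ ⟨u1, nW U⟩ (T := O ⊔ H) le_sup_left
    (sup_le (h.OW.trans u1) hU') ?_ (hS.of_le (h.SW.trans u1) le_top |>.idx_of_le h.SW) ?_ a iU
    (h.resW a c)).trans (Iff.trans ?_ (extTo_iff_pindex h.hp h.CV nC nV lC hH.le ?_
      (hS.of_le s1 le_top |>.idx_of_le h.SV) hH.idx.of_compl_compl b iV (h.resV b d)).symm)
  · rw [← h.eW, relIndex_sup_norm' (Or.inl h.n)]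
    exact h.hS.relIndex O
  · have k2 : (O ⊔ H).relIndex U = (O ⊔ H).relIndex (O ⊔ S) := by
      rw [← relIndex_sup_norm' (K := O ⊔ H) (H := O ⊔ S) (Or.inr (h.eW ▸ nW _)), ← eU']
      congr 1
      rw [sup_assoc, sup_assoc, sup_left_comm H O S, sup_left_idem]
    rw [k2]
    refine PiNat.dvd ?_ (relIndex_dvd_left _ le_sup_left)
    rw [relIndex_sup_norm' (Or.inl h.n)]
    exact h.hS.relIndex O
  · exact okuyama_wajima h.hp h.hS hH.pi hN lC dH (h.resV b d) O h.hO h.n (nO H) h.eC h.CO _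
      (h.resW a c) (h.invW a) (fun g hg _ _ e => iU g (hU' hg) _ _ e) r.1
  · rw [← h.eV, relIndex_sup_norm' (Or.inl h.nC)]
    exact h.hS.relIndex C

theorem core (hS : Syl p S ⊤) {Z : Type*} [Group Z] [Finite Z] (j : Z →* G)
    (hc : ∀ z, j z ∈ center G) (hV : ∀ z, j z ∈ V) (μ : Z →* ℂˣ) :
    cnt p j (fun z => μ z) = cs p j (fun z => μ z) (𝐍 S) := by
  rw [cs_eq_cnt p fun z => h.VN (hV z)]
  let E := NormalEmb.sub W
  let E₁ := NormalEmb.ofLe h.VN h.nV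
  let jW := j.codRestrict W fun z => h.VW (hV z)
  let jV := j.codRestrict V hV
  have cz : ∀ {X : Subgroup G} (k : ∀ z, j z ∈ X) z, j.codRestrict X k z ∈ center X := fun _ z =>
    mem_center_iff.2 fun g => Subtype.ext (mem_center_iff.1 (hc z) g)
  have B := bij_restrict (P' := Ov jW fun z => μ z) (Q' := Ov jV fun z => μ z) h.bij
    fun ψ φ a b c d r => by
      rw [ov_central_iff (cz _) a, ov_central_iff (cz _) b]
      refine forall_congr' fun z => ?_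
      rw [← div_eq_iff (irr_one_ne_zero a), ← div_eq_iff (irr_one_ne_zero b),
        ← r.central a b c d (jV z) (hc z)]
      rfl
  have cμ := irr_isCharacter (irr_linear μ)
  have iW : PiNat {p}ᶜ E.index := by
    simpa [E] using hS.idx_of_le h.SW
  have iV : PiNat {p}ᶜ E₁.index := by
    rw [NormalEmb.index_ofLe]
    exact (hS.of_le (le_norm_self S) le_top).idx_of_le h.SV
  have dg : ∀ {X N : Type u} [Group X] [Finite X] [Group N] (E : NormalEmb N X),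
      PiNat {p}ᶜ E.index → ∀ τ, IsIrrCharacter N τ → ¬ p ∣ charDegree τ →
      ∀ χ, IsIrrCharacter X χ → Ov E.ι τ χ → (¬ p ∣ charDegree χ ↔ ¬ 0 ∣ charDegree χ) :=
    fun E i τ a b χ c d => by
      obtain ⟨k, k1, k2⟩ := d.exists_deg c a
      simp only [not_zero_dvd_charDegree c, not_false_iff, iff_true]
      rw [k2, h.hp.dvd_mul, not_or]
      exact ⟨(i.dvd k1).not_dvd' h.hp rfl, b⟩
  refine card_eq_of_rel (Θ := {t : (W → ℂ) × (V → ℂ) // IsIrrCharacter W t.1 ∧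
      IsIrrCharacter V t.2 ∧ (¬ p ∣ charDegree t.1 ∧ Ov jW (fun z => μ z) t.1) ∧
      (¬ p ∣ charDegree t.2 ∧ Ov jV (fun z => μ z) t.2) ∧ h.Rel t.1 t.2})
    (fun a t => Ov E.ι t.1.1 a.1) (fun a t => Ov E₁.ι t.1.2 a.1)
    (fun t t' => ∃ n : 𝐍 S, E.cj t.1.1 n = t'.1.1) ?_ ?_ ?_ ?_ ?_
  · rintro ⟨χ, h1, h2⟩
    obtain ⟨ψ, a, o1, o2⟩ := Ov.exists_mid (f := E.ι) (g := jW) h2 (irr_isClassFunction χ.2)
    obtain ⟨k, -, e⟩ := o1.exists_deg χ.2 a
    have c : ¬ p ∣ charDegree ψ := fun d => h1 (e ▸ d.mul_left k)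
    obtain ⟨φ, b, d, r⟩ := B.ex ψ a ⟨c, o2⟩
    exact ⟨⟨(ψ, φ), a, b, ⟨c, o2⟩, d, r⟩, o1⟩
  · rintro ⟨χ, h1, h2⟩
    obtain ⟨φ, a, o1, o2⟩ := Ov.exists_mid (f := E₁.ι) (g := jV) h2 (irr_isClassFunction χ.2)
    obtain ⟨k, -, e⟩ := o1.exists_deg χ.2 a
    have c : ¬ p ∣ charDegree φ := fun d => h1 (e ▸ d.mul_left k)
    obtain ⟨ψ, b, d, r⟩ := B.surj φ a ⟨c, o2⟩
    exact ⟨⟨(ψ, φ), b, a, d, ⟨c, o2⟩, r⟩, o1⟩
  · rintro ⟨χ, _⟩ ⟨t, a, _⟩ o ⟨t', a', _⟩
    refine ⟨fun o' => ?_, fun ⟨n, e⟩ => ?_⟩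
    · obtain ⟨g, e⟩ := o.exists_cj o' χ.2 a a'
      obtain ⟨w, hw, n, hn, rfl⟩ := frattini h.SW hS g
      rw [E.cj_mul, show E.cj t.1 w = t.1 from E.cj_ι (irr_isClassFunction a) ⟨w, hw⟩] at e
      exact ⟨⟨n, hn⟩, e⟩
    · exact (e ▸ (ov_cj E (irr_isClassFunction χ.2) n).2 o :)
  · rintro ⟨χ, _⟩ ⟨t, a, b, c, d, r⟩ o ⟨t', a', b', c', d', r'⟩
    simp only [E, h.cj_iff a a' b b' c.1 c'.1 d.1 d'.1 r r']
    exact ⟨fun o' => o.exists_cj o' χ.2 b b',
      fun ⟨n, e⟩ => (e ▸ (ov_cj E₁ (irr_isClassFunction χ.2) n).2 o :)⟩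
  · rintro ⟨t, a, b, c, d, r⟩
    exact (cnt_fiber (fun _ => rfl) cμ a c.2 (dg E iW _ a c.1)).trans
      ((h.cnt_eq hS a b c.1 d.1 r).trans (cnt_fiber (fun _ => rfl) cμ b d.2 (dg E₁ iV _ b d.1)).symm)

end MSet

section Reduce

variable {G : Type u} {N : Type*} [Group G] [Group N] [Finite G]

theorem exists_inv_under_syl [Fact p.Prime] {K X : Type*} [Group K] [Group X] [Finite X]
    (E : NormalEmb K G) (E' : NormalEmb K X) (f : X →* G) (hf : ∀ k, f (E'.ι k) = E.ι k)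
    {S : Subgroup G} (hS : PiGrp {p} S) (l : S ≤ f.range) {χ : X → ℂ} (hχ : IsIrrCharacter X χ)
    (d : ¬ p ∣ charDegree χ) : ∃ τ, IsIrrCharacter K τ ∧ Ov E'.ι τ χ ∧ S ≤ E.inertia τ := by
  obtain ⟨τ, h1, h2, h3⟩ := exists_inv_under hS.isPGroup E' (E.c.comp S.subtype) hχ
    (fun s k => by
      obtain ⟨x, hx⟩ := l s.2
      have := E'.invariant_res (irr_isClassFunction hχ) x k
      rwa [E.c_eq_of_comp E' f hf, hx] at this) fun θ a o h => d (h.trans (o.index_dvd hχ a))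
  exact ⟨τ, h1, h2, fun s hs => E.mem_inertia'.2 (h3 ⟨s, hs⟩)⟩

theorem exists_cj_norm {K : Type*} [Group K] (E : NormalEmb K G) {S : Subgroup G} (hS : Syl p S ⊤)
    {τ : K → ℂ} (h : S ≤ E.inertia τ) {g : G} (h' : S ≤ E.inertia (E.cj τ g)) :
    ∃ n ∈ 𝐍 S, E.cj τ n = E.cj τ g := by
  obtain ⟨t, ht, e⟩ := (hS.of_le h le_top).syl_conj ((hS.cj_top g).of_le (K := E.inertia τ)
    (fun x hx => by
      obtain ⟨s, hs, rfl⟩ := mem_cj_iff.1 hx
      rw [← E.cj_eq_cj_iff, E.cj_mul]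
      exact h' hs) le_top)
  refine ⟨t⁻¹ * g, cj_eq_self.1 (by rw [← cj_cj, e, cj_inv_cj]), ?_⟩
  rw [E.cj_mul, E.mem_inertia.1 (inv_mem ht)]

theorem cnt_eq_cs_of_normal [Fact p.Prime] (E : NormalEmb N G) {θ : N → ℂ}
    (hθ : IsIrrCharacter N θ) (hi : E.Invariant θ) {S : Subgroup G} (hS : Syl p S ⊤)
    (K M : Subgroup G) [K.Normal] (hK : ∀ n, E.ι n ∈ K) (l : K ≤ M) (hM : 𝐍 S ≤ M)
    (ih : ∀ τ, IsIrrCharacter K τ → S ≤ (NormalEmb.sub K).inertia τ →
      cnt p K.subtype τ = cs p K.subtype τ M) : cnt p E.ι θ = cs p E.ι θ M := by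
  have := Finite.of_injective _ E.inj
  rw [cs_eq_cnt p fun n => l (hK n)]
  let F := NormalEmb.sub K
  let F' := F.restrict M fun k => l k.2
  let i := E.ι.codRestrict K hK
  have ov : ∀ {X : Type u} [Group X] [Finite X] (E' : NormalEmb N X) (F' : NormalEmb K X),
      E'.Invariant θ → (∀ n, E'.ι n = F'.ι (i n)) → ∀ χ τ, IsIrrCharacter X χ → IsIrrCharacter K τ →
      Ov E'.ι θ χ → Ov F'.ι τ χ → Ov i θ τ := fun E' F' hi e χ τ a b o1 o2 => by
    obtain ⟨φ, c, o3⟩ := exists_ov i b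
    obtain ⟨g, rfl⟩ := o1.exists_cj ((ov_congr fun n => by simp [e]).1
      (o2.trans o3 (irr_isCharacter a) b (irr_isCharacter c))) a hθ c
    rwa [hi.cj_eq] at o3
  refine card_eq_of_rel (Θ := {τ : K → ℂ // IsIrrCharacter K τ ∧ S ≤ F.inertia τ ∧ Ov i θ τ})
    (fun a t => Ov F.ι t.1 a.1) (fun a t => Ov F'.ι t.1 a.1)
    (fun t t' => ∃ n : M, F.cj t.1 n = t'.1) ?_ ?_ ?_ ?_ ?_
  · rintro ⟨χ, h1, h2⟩
    obtain ⟨τ, a, b, c⟩ := exists_inv_under_syl F F (MonoidHom.id G) (fun _ => rfl) hS.pi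
      (fun s _ => ⟨s, rfl⟩) χ.2 h1
    exact ⟨⟨τ, a, c, ov E F hi (fun _ => rfl) χ τ χ.2 a h2 b⟩, b⟩
  · rintro ⟨χ, h1, h2⟩
    obtain ⟨τ, a, b, c⟩ := exists_inv_under_syl F F' M.subtype (fun _ => rfl) hS.pi
      (by simpa using (le_norm_self S).trans hM) χ.2 h1
    exact ⟨⟨τ, a, c, ov (E.restrict M fun n => l (hK n)) F' (fun g => hi g) (fun _ => rfl) χ τ χ.2
      a h2 b⟩, b⟩
  · rintro ⟨χ, _⟩ ⟨t, a, b, _⟩ o ⟨t', a', b', _⟩
    refine ⟨fun o' => ?_, fun ⟨n, e⟩ => (e ▸ (ov_cj F (irr_isClassFunction χ.2) n).2 o :)⟩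
    obtain ⟨g, rfl⟩ := o.exists_cj o' χ.2 a a'
    obtain ⟨n, hn, e⟩ := exists_cj_norm F hS b b'
    exact ⟨⟨n, hM hn⟩, e⟩
  · rintro ⟨χ, _⟩ ⟨t, a, b, _⟩ o ⟨t', a', b', _⟩
    exact ⟨fun o' => o.exists_cj o' χ.2 a a',
      fun ⟨n, e⟩ => (e ▸ (ov_cj F' (irr_isClassFunction χ.2) n).2 o :)⟩
  · rintro ⟨t, a, b, c⟩
    exact (cnt_fiber (fun _ => rfl) (irr_isCharacter hθ) a c fun _ _ _ => Iff.rfl).trans
      (((ih t a b).trans (cs_eq_cnt p (fun k : K => l k.2) t)).trans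
        (cnt_fiber (fun _ => rfl) (irr_isCharacter hθ) a c fun _ _ _ => Iff.rfl).symm)

theorem cs_clifford (E : NormalEmb N G) {θ : N → ℂ} (hθ : IsIrrCharacter N θ) {M : Subgroup G}
    (hM : ∀ n, E.ι n ∈ M) (hp : p.Coprime ((E.inertia θ).relIndex M)) :
    cs p E.ι θ M = cs p E.ι θ (E.inertia θ ⊓ M) := by
  rw [cs_eq_cnt p hM, ← subgroupOf_map_subtype]
  refine (cnt_clifford p (E.restrict M hM) hθ (T := (E.inertia θ).subgroupOf M)
    (E.inertia_comap (E.restrict M hM) M.subtype (fun _ => rfl) θ).le (Or.inl hp)).trans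
    (cs_map p (subtype_injective _) (fun _ => rfl) (fun n => ?_) θ).symm
  exact E.ι_mem_inertia (irr_isClassFunction hθ) n

theorem cnt_eq_zero (E : NormalEmb N G) {θ : N → ℂ} (hθ : IsIrrCharacter N θ)
    (h : p ∣ charDegree θ) : cnt p E.ι θ = 0 := by
  have : IsEmpty {χ : IrrCharacter G // ¬ p ∣ charDegree (χ : G → ℂ) ∧ Ov E.ι θ χ} :=
    ⟨fun ⟨χ, a, b⟩ => by
      obtain ⟨k, -, e⟩ := b.exists_deg χ.2 hθ
      exact a (e ▸ h.mul_left k)⟩
  exact Nat.card_of_isEmpty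

end Reduce

/-- The statement of the relative McKay equality for index `n`. -/
def RelMcKay (p n : ℕ) : Prop :=
  ∀ (G N : Type u) [Group G] [Group N] [Finite G] (E : NormalEmb N G), E.index = n →
    IsPSolvable p G → ∀ S : Subgroup G, Syl p S ⊤ → ∀ θ, IsIrrCharacter N θ → S ≤ E.inertia θ →
      cnt p E.ι θ = cs p E.ι θ (𝐍 (E.ι.range ⊔ S))

section Main

variable [hp : Fact p.Prime] {G N : Type u} [Group G] [Group N] [Finite G] (E : NormalEmb N G)
  (ih : ∀ m < E.index, RelMcKay.{u} p m) (hG : IsPSolvable p G) {S : Subgroup G} (hS : Syl p S ⊤)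
include ih hG hS

theorem relMcKay_restrict {θ : N → ℂ} (hθ : IsIrrCharacter N θ) (hi : S ≤ E.inertia θ)
    {M : Subgroup G} (hM : M ≠ ⊤) (l : E.ι.range ⊔ S ≤ M) :
    cs p E.ι θ M = cs p E.ι θ (M ⊓ 𝐍 (E.ι.range ⊔ S)) := by
  have h : ∀ n, E.ι n ∈ M := fun n => l (mem_sup_left ⟨n, rfl⟩)
  have e : (E.restrict M h).ι.range ⊔ S.subgroupOf M = (E.ι.range ⊔ S).subgroupOf M := by
    apply map_injective M.subtype_injective
    rw [Subgroup.map_sup, map_subgroupOf l, map_subgroupOf (le_sup_right.trans l),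
      ← MonoidHom.range_comp]
    rfl
  rw [cs_eq_cnt p h]
  refine (ih _ ?_ M N (E.restrict M h) rfl (CF.Solv.isPSolvable_subgroup hG M) (S.subgroupOf M)
    (by simpa using hall_subgroupOf (hS.of_le (le_sup_right.trans l) le_top) le_rfl) θ hθ
    fun s hs => hi hs).trans ?_
  · rw [E.index_restrict, NormalEmb.index, ← relIndex_mul_index (le_sup_left.trans l)]
    exact lt_mul_of_one_lt_right (relIndex_pos _ _) (one_lt_index_of_ne_top hM)
  · rw [← cs_map p M.subtype_injective (j := E.ι) (j' := (E.restrict M h).ι) (fun _ => rfl)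
      fun n => le_norm_self ((E.restrict M h).ι.range ⊔ S.subgroupOf M) (mem_sup_left ⟨n, rfl⟩), e, ← subgroupOf_normalizer_eq l,
      subgroupOf_map_subtype, inf_comm]

theorem relMcKay_central (hc : ∀ z, E.ι z ∈ center G) (μ : N →* ℂˣ) :
    cnt p E.ι (fun z => μ z) = cs p E.ι (fun z => μ z) (𝐍 (E.ι.range ⊔ S)) := by
  have := Finite.of_injective _ E.inj
  obtain ⟨L, hL⟩ : ∃ L, L = E.ι.range := ⟨_, rfl⟩
  have nL : L.Normal := hL ▸ E.instNormalRange
  have cL : L ≤ center G := by rintro _ h; obtain ⟨z, rfl⟩ := hL.le h; exact hc z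
  have cL' : ∀ X : Subgroup G, L ≤ 𝐂 X := fun X => cL.trans (center_le_centralizer _)
  have nrm : ∀ (K : Subgroup G) [K.Normal] (X : Subgroup G), X ≤ 𝐍 K := fun K hK X =>
    le_top.trans (normalIn_top.2 hK).norm
  have inv : E.Invariant fun z => (μ z : ℂ) := fun g z => by
    rw [show E.c g z = z from E.inj (by
      rw [E.ι_c, mem_center_iff.1 (hc z) g, mul_inv_cancel_right])]
  by_cases h0 : 𝐍 (L ⊔ S) = ⊤
  · rw [← hL, h0, cs_top]
  by_cases h1 : ∃ K : Subgroup G, K.Normal ∧ L < K ∧ 𝐍 (K ⊔ S) ≠ ⊤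
  · obtain ⟨K, _, h2, h3⟩ := h1
    rw [cnt_eq_cs_of_normal E (irr_linear μ) inv hS K (𝐍 (K ⊔ S)) (fun n => h2.le (hL.ge ⟨n, rfl⟩))
      (le_sup_left.trans (le_norm_self _)) (norm_sup (nrm K _) le_rfl) fun τ a b => ?_,
      relMcKay_restrict E ih hG hS (irr_linear μ) (by simp [E.invariant_iff_inertia.1 inv]) h3
      ((sup_le_sup_right (hL.ge.trans h2.le) S).trans (le_norm_self _)), inf_eq_right.2]
    · rw [← hL, show K ⊔ S = K ⊔ (L ⊔ S) by rw [← sup_assoc, sup_eq_left.2 h2.le]]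
      exact norm_sup (nrm K _) le_rfl
    · simpa using ih _ (by
        rw [NormalEmb.index_sub, NormalEmb.index, ← hL]
        exact index_strictAnti h2) G K (NormalEmb.sub K) rfl hG S hS τ a b
  push Not at h1
  let O : Subgroup G := 𝐎 {p}ᶜ ⊤
  have nO : O.Normal := normalIn_top.1 (O_normal _ _)
  have dL := (abel_of_forall fun x hx y _ => (mem_center_iff.1 (cL hx) y).symm).nil.dprod {p}
  have nOL : ∀ π : Set ℕ, 𝐎 π L ⊴ ⊤ := fun π => (normalIn_top.2 nL).O π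
  have l1 : 𝐎 {p} L ≤ S := hS.le_of_normal (nOL _) (O_pi _ _)
  have l2 : 𝐎 {p}ᶜ L ≤ O := le_O (nOL _) (O_pi _ _)
  have lV : L ≤ O ⊓ 𝐂 S ⊔ S := dL.sup.ge.trans (sup_le (l1.trans le_sup_right)
    ((le_inf l2 ((O_le _ _).trans (cL' S))).trans le_sup_left))
  have hO : ¬ O ≤ L := fun hO => by
    have : Nontrivial (G ⧸ L) := QuotientGroup.nontrivial_iff.2 (by
      rintro rfl; exact h0 (by rw [top_sup_eq, norm_top]))
    have key : ∀ π : Set ℕ, piCore π (G ⧸ L) ≠ ⊥ → ∃ K : Subgroup G, K.Normal ∧ L < K ∧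
        PiNat π (L.relIndex K) := fun π h => by
      refine ⟨(𝐎 π ⊤).comap (QuotientGroup.mk' L), (normalIn_top.1 (O_normal _ _)).comap _,
        lt_of_le_of_ne (QuotientGroup.le_comap_mk' _ _) fun e => h ?_, ?_⟩
      · rw [← O_top, ← map_comap_eq_self_of_surjective (QuotientGroup.mk'_surjective L) (𝐎 π ⊤),
          ← e, QuotientGroup.map_mk'_self]
      · rw [← card_map_mk, map_comap_eq_self_of_surjective (QuotientGroup.mk'_surjective L)]
        exact O_pi _ _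
    rcases (CF.Solv.isPSolvable_iff_isPiSep.1
      (CF.Solv.isPSolvable_quotient hG L)).piCore_ne_bot with h | h
    · obtain ⟨K, k1, k2, k3⟩ := key _ h
      obtain ⟨T, hT⟩ := exists_syl p K
      have t1 : K = L ⊔ S ⊓ K := by
        have := hS.inf_normal (normalIn_top.2 k1)
        refine le_antisymm (relIndex_eq_one.1 (PiNat.eq_one (k3.dvd (relIndex_dvd_left _ le_sup_left))
          (this.idx_of_le le_sup_right))) (sup_le k2.le inf_le_right)
      refine h0 ?_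
      rw [← h1 K k1 k2, t1, sup_assoc, sup_eq_right.2 (inf_le_left : S ⊓ K ≤ S)]
    · obtain ⟨K, k1, k2, k3⟩ := key _ h
      have := CF.Solv.exists_normal_complement_of_central (π := {p}) (M := K)
        ((O_le _ _).trans k2.le) (cent_symm ((O_le {p} L).trans (cL' K))) (O_pi _ _) (by
          rw [← relIndex_mul_relIndex _ _ _ (O_le {p} L) k2.le, dL.sdprod.relIndex_left]
          exact PiNat.mul (O_pi _ _) k3)
      rw [← O_top] at this
      exact k2.not_ge (this.trans (sup_le (O_le _ _) hO))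
  have nW : (O ⊔ S).Normal := by
    have := h1 (O ⊔ L) inferInstance (right_lt_sup.2 hO)
    rw [sup_right_comm, sup_eq_left.2 (lV.trans (sup_le_sup_right inf_le_left S))] at this
    exact normalizer_eq_top_iff.1 this
  have M : MSet p O S _ _ _ := ⟨hp.out, O_pi _ _, hS.pi, nrm O S, rfl, rfl, rfl⟩
  rw [M.core hS E.ι hc (fun z => lV (hL.ge ⟨z, rfl⟩)) μ, ← hL]
  congr 1
  exact le_antisymm (norm_sup (nrm L _) le_rfl) ((hS.of_le le_sup_right le_top).norm_le_norm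
    (sup_le (norm_of_cent (cL' S)) (le_norm_self S)))

end Main

theorem relMcKay [hp : Fact p.Prime] (n : ℕ) : RelMcKay.{u} p n := by
  induction n using Nat.strong_induction_on with | h n ih =>
  rintro G N _ _ _ E rfl hG S hS θ hθ hi
  have hM : ∀ n, E.ι n ∈ 𝐍 (E.ι.range ⊔ S) := fun n => le_norm_self _ (mem_sup_left ⟨n, rfl⟩)
  by_cases d : p ∣ charDegree θ
  · rw [cnt_eq_zero E hθ d, cs_eq_cnt p hM]
    exact (cnt_eq_zero (E.restrict _ hM) hθ d).symm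
  have cop : ∀ {X : Subgroup G}, S ≤ X → p.Coprime ((E.inertia θ).relIndex X) := fun l =>
    ((piNat_compl_single_iff_coprime hp.out).1 ((hS.of_le l le_top).idx_of_le hi)).symm
  by_cases hT : E.inertia θ = ⊤
  swap
  · rw [cnt_clifford p E hθ le_rfl (Or.inl (by simpa using cop le_top)),
      relMcKay_restrict E ih hG hS hθ hi hT
        (sup_le (E.range_le_inertia (irr_isClassFunction hθ)) hi),
      cs_clifford E hθ hM (cop (le_sup_right.trans (le_norm_self _)))]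
  let π := QuotientGroup.mk' E.ι.range
  have sπ : Function.Surjective π := QuotientGroup.mk'_surjective _
  obtain ⟨Z, Γ, _, _, _, F, μ, ρ, T⟩ := exists_tripIso E hθ (E.invariant_iff_inertia.2 hT) π sπ
    (QuotientGroup.ker_mk' _)
  have c := T.cs_eq hθ (Or.inl ((Nat.Prime.coprime_iff_not_dvd hp.out).2 d))
  have h1 : Syl p (S.map π) ⊤ := map_top_of_surjective π sπ ▸ hS.map π
  obtain ⟨R, hR⟩ := exists_syl p ((S.map π).comap ρ)
  have h2 : Syl p R ⊤ := hR.trans_idx le_top (by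
    simpa [index_comap_of_surjective _ T.surj] using h1.idx)
  have h3 : F.ι.range ⊔ R = (S.map π).comap ρ := by
    have := hR.map ρ
    rw [map_comap_eq_self_of_surjective T.surj] at this
    rw [← this.eq_of_pi h1.pi, comap_map_eq, T.ker, sup_comm]
  have e1 := c ⊤
  rw [comap_top, comap_top, cs_top, cs_top] at e1
  have nF := F.instNormalRange
  rw [e1, relMcKay_central F ?_ ?_ h2 T.central μ, h3, ← comap_normalizer_eq_of_surjective _ T.surj,
    ← c, comap_normalizer_eq_of_surjective _ sπ, comap_map_eq, T.kerπ, sup_comm]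
  · rwa [NormalEmb.index, ← T.ker, index_ker, MonoidHom.range_eq_top.2 T.surj, card_top]
  · have : Group.IsSolvable F.ι.range := Abel.sol (abel_of_forall (by
      rintro _ ⟨z, rfl⟩ y -; exact (mem_center_iff.1 (T.central z) y).symm))
    exact CF.Solv.isPSolvable_of_normal_of_quotient F.ι.range
      (CF.Solv.isPSolvable_of_isSolvable p) (CF.Solv.isPSolvable_of_injective
        (CF.Solv.isPSolvable_quotient hG E.ι.range) (f := QuotientGroup.lift _ ρ T.ker.ge)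
        ((QuotientGroup.injective_lift_iff _ _ _).2 T.ker.symm))

end CF.Char
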