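import Cfsg.Agent.Char.OW
import Cfsg.Agent.Char.RelGlaub

/-! The McKay count for a group with a normal subgroup `O S`, `O` a `p'`-group. -/

namespace CF.Char

open Cfsg CF.Clifford CF.BG Subgroup
open scoped ComplexConjugate commutatorElement

universe u

variable {p : ℕ}

theorem card_eq_of_rel {A B Θ : Type*} [Finite A] [Finite B] (r : A → Θ → Prop)
    (s : B → Θ → Prop) (e : Θ → Θ → Prop) (ra : ∀ a, ∃ t, r a t) (sb : ∀ b, ∃ t, s b t)
    (re : ∀ a t, r a t → ∀ t', r a t' ↔ e t t') (se : ∀ b t, s b t → ∀ t', s b t' ↔ e t t')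
    (h : ∀ t, Nat.card {a // r a t} = Nat.card {b // s b t}) : Nat.card A = Nat.card B := by
  refine Nat.card_congr (Equiv.ofFiberEquiv (f := fun a => {t | r a t}) (g := fun b => {t | s b t})
    fun X => Classical.choice (Finite.card_eq.1 ?_))
  by_cases k : ∃ t, e t t ∧ X = {t' | e t t'}
  · obtain ⟨t, h1, rfl⟩ := k
    refine ((Nat.card_congr (Equiv.subtypeEquivRight fun a => ?_)).trans (h t)).trans
      (Nat.card_congr (Equiv.subtypeEquivRight fun b => ?_))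
    · exact ⟨fun k => (Set.ext_iff.1 k t).2 h1, fun k => Set.ext (re a t k)⟩
    · exact ⟨fun k => Set.ext (se b t k), fun k => (Set.ext_iff.1 k t).2 h1⟩
  · have : IsEmpty {a // {t | r a t} = X} := ⟨fun ⟨a, ha⟩ => by
      obtain ⟨t, ht⟩ := ra a
      exact k ⟨t, (re a t ht t).1 ht, ha.symm.trans (Set.ext (re a t ht))⟩⟩
    have : IsEmpty {b // {t | s b t} = X} := ⟨fun ⟨a, ha⟩ => by
      obtain ⟨t, ht⟩ := sb a
      exact k ⟨t, (se a t ht t).1 ht, ha.symm.trans (Set.ext (se a t ht))⟩⟩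
    simp

section Generic

variable {G N K : Type*} [Group G] [Group N] [Group K]

theorem cnt_fiber [Finite N] [Finite K] {j : K →* G} {i : N →* K} {k : N →* G}
    (e : ∀ n, k n = j (i n)) {θ : N → ℂ} (hθ : IsCharacter N θ) {τ : K → ℂ}
    (hτ : IsIrrCharacter K τ) (o : Ov i θ τ) {q : ℕ} (hq : ∀ χ, IsIrrCharacter G χ → Ov j τ χ →
      (¬ p ∣ charDegree χ ↔ ¬ q ∣ charDegree χ)) :
    Nat.card {a : {χ : IrrCharacter G // ¬ p ∣ charDegree (χ : G → ℂ) ∧ Ov k θ χ} // Ov j τ a.1} =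
      cnt q j τ :=
  Nat.card_congr ((Equiv.subtypeSubtypeEquivSubtypeInter _ fun χ : IrrCharacter G =>
    Ov j τ χ).trans (Equiv.subtypeEquivRight fun χ => ⟨fun h => ⟨(hq _ χ.2 h.2).1 h.1.1, h.2⟩,
      fun h => ⟨⟨(hq _ χ.2 h.2).2 h.1, (ov_congr fun n => by simp [e]).1
        (h.2.trans o (irr_isCharacter χ.2) hτ hθ)⟩, h.2⟩⟩))

theorem Ov.exists_deg {G : Type u} [Group G] [Finite G] {E : NormalEmb N G} {θ : N → ℂ}
    {χ : G → ℂ} (h : Ov E.ι θ χ) (hχ : IsIrrCharacter G χ) (hθ : IsIrrCharacter N θ) :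
    ∃ k, k ∣ E.index ∧ charDegree χ = k * charDegree θ := by
  have := Finite.of_injective _ E.inj
  have := Fintype.ofFinite N
  obtain ⟨k, h1, h2⟩ := E.exists_deg_eq_mul hθ hχ (ov_iff.1 h)
  exact ⟨k, h1, charDegree_of_mul (irr_isCharacter hθ) h2⟩

theorem Ov.index_dvd [Finite G] {E : NormalEmb N G} {θ : N → ℂ}
    {χ : G → ℂ} (h : Ov E.ι θ χ) (hχ : IsIrrCharacter G χ) (hθ : IsIrrCharacter N θ) :
    (E.inertia θ).index ∣ charDegree χ := by
  have := Finite.of_injective _ E.inj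
  have := Fintype.ofFinite N
  have := Fintype.ofFinite G
  obtain ⟨e, he⟩ := inner_char_eq_nat (char_comp (irr_isCharacter hχ) E.ι) (irr_isCharacter hθ)
  have := E.clifford_one hχ hθ (ov_iff.1 h)
  rw [he, ← mul_assoc, ← Nat.cast_mul] at this
  rw [charDegree_of_mul (irr_isCharacter hθ) this]
  exact (dvd_mul_left _ _).mul_right _

theorem Ov.eq_of_deg [Finite N] {j : N →* G} {θ : N → ℂ} {χ : G → ℂ} (h : Ov j θ χ)
    (hχ : IsCharacter G χ) (hθ : IsIrrCharacter N θ) (e : charDegree χ = charDegree θ) (n : N) :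
    χ (j n) = θ n := by
  have := Fintype.ofFinite N
  refine congrFun (eq_of_inner_ne_zero_of_one_eq (char_comp hχ j) hθ (ov_iff.1 h) ?_) n
  rw [map_one, ← BlockB.charDegree_eq hχ, e, BlockB.charDegree_eq (irr_isCharacter hθ)]

theorem irr_res_of_not_dvd {G : Type u} [Group G] [Finite G] (E : NormalEmb N G)
    (hI : PiNat {p} E.index) {χ : G → ℂ} (hχ : IsIrrCharacter G χ) (hd : ¬ p ∣ charDegree χ) :
    IsIrrCharacter N fun n => χ (E.ι n) := by
  have := Finite.of_injective _ E.inj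
  obtain ⟨θ, hθ, o⟩ := exists_ov E.ι hχ
  obtain ⟨k, h1, h2⟩ := o.exists_deg hχ hθ
  obtain rfl : k = 1 := by
    by_contra h
    obtain ⟨q, hq, d⟩ := Nat.exists_prime_and_dvd h
    obtain rfl : q = p := hI q hq (d.trans h1)
    exact hd (h2 ▸ d.mul_right _)
  rwa [funext (o.eq_of_deg (irr_isCharacter hχ) hθ (by simpa using h2))]

theorem charDegree_dvd_card [Finite G] {χ : G → ℂ} (hχ : IsIrrCharacter G χ) :
    charDegree χ ∣ Nat.card G :=
  irr_one_dvd_card hχ (BlockB.charDegree_eq (irr_isCharacter hχ)).symm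

theorem ov_central_iff [Finite G] [Finite N] {j : N →* G} (hc : ∀ z, j z ∈ center G)
    {μ : N →* ℂˣ} {χ : G → ℂ} (hχ : IsIrrCharacter G χ) :
    Ov j (fun z => μ z) χ ↔ ∀ z, χ (j z) = μ z * χ 1 := by
  have := Fintype.ofFinite N
  refine ⟨fun h z => by simpa using scalar_of_inner j hc hχ (ov_iff.1 h) z 1, fun h => ?_⟩
  rw [ov_iff, show (fun z => χ (j z)) = χ 1 • fun z => (μ z : ℂ) from
    funext fun z => by simp [h, mul_comm], inner_smul_left, inner_irr_self (irr_linear μ), mul_one]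
  exact irr_one_ne_zero hχ

theorem detChar_of_center [Finite G] {χ : G → ℂ} (hχ : IsIrrCharacter G χ) {z : G}
    (hz : z ∈ center G) : detChar χ z = (χ z / χ 1) ^ charDegree χ := by
  have h1 := irr_one_ne_zero hχ
  refine detChar_of_scalar (irr_isCharacter hχ) (BlockB.charDegree_eq (irr_isCharacter hχ)).symm
    fun k => ?_
  rw [BlockB.charDegree_eq (irr_isCharacter hχ)]
  induction k with
  | zero => simp
  | succ k ih =>
    rw [pow_succ', char_mul_of_mem_charCenter h1 (center_le_charCenter hχ hz), ih]; ring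

end Generic

variable {G : Type u} [Group G] [Finite G]

section Det

variable {O S W : Subgroup G} (hO : PiGrp {p}ᶜ O) (hS : PiGrp {p} S) (n : S ≤ 𝐍 O)
  (hW : O ⊔ S = W) (l : O ≤ W) (l' : S ≤ W)
include n hW

omit [Finite G] in
theorem norm_of_sup_eq : ∀ t ∈ W, ∀ k ∈ O, t * k * t⁻¹ ∈ O :=
  le_norm_iff.1 (hW ▸ sup_le (le_norm_self O) n)

include hS in
theorem piNat_index_sup : PiNat {p} (NormalEmb.ofLe l (norm_of_sup_eq n hW)).index := by
  rw [NormalEmb.index_ofLe, ← hW, relIndex_sup_norm' (Or.inl n)]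
  exact hS.relIndex O

omit [Finite G] in
theorem exists_mul_sup (x : W) :
    ∃ y, ∃ r ∈ (NormalEmb.ofLe l (norm_of_sup_eq n hW)).ι.range, x = inclusion l' y * r := by
  obtain ⟨a, ha, b, hb, e⟩ := (mem_sup_norm n).1 ((hW.symm.trans (sup_comm _ _)).le x.2)
  exact ⟨⟨a, ha⟩, _, ⟨⟨b, hb⟩, rfl⟩, Subtype.ext e.symm⟩

include hO hS

theorem exists_ext_det {θ : O → ℂ} (hθ : IsIrrCharacter O θ) (hi : AInv O S θ) (τ : S →* ℂˣ) :
    ∃ ψ, IsIrrCharacter W ψ ∧ (∀ o, ψ (inclusion l o) = θ o) ∧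
      ∀ s, detChar ψ (inclusion l' s) = τ s := by
  let E := NormalEmb.ofLe l (norm_of_sup_eq n hW)
  have cop : E.index.Coprime (♯O) := (piNat_index_sup hS n hW l).coprime hO
  obtain ⟨η, h1, h2⟩ := E.exists_ext_of_coprime_card hθ (AInv.invariant
    (hW ▸ (aInv_self (irr_isClassFunction hθ)).sup hi (le_norm_self O) n) _ _) cop
  have c1 := irr_isCharacter h1
  obtain ⟨κ, k1, k2⟩ := exists_hom_of_sup (inclusion l') E.ι.range (exists_mul_sup n hW l l')
    (τ * ((detHom c1).comp (inclusion l'))⁻¹) fun y ⟨o, ho⟩ => by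
      have h : (o : G) = y := congrArg Subtype.val ho
      obtain rfl : y = 1 := Subtype.ext (eq_one_of_mem_bot (hS.inf_eq_bot hO) ⟨y.2, h ▸ o.2⟩)
      exact map_one _
  obtain ⟨ψ, ⟨a, b, c⟩, -⟩ := E.existsUnique_ext_det hθ
    (BlockB.charDegree_eq (irr_isCharacter hθ)).symm
    (cop.coprime_dvd_right (charDegree_dvd_card hθ)) c1 h2 (κ * detHom c1) fun o => by
      rw [← funext h2, detChar_comp c1]
      simp [k1 _ ⟨o, rfl⟩]
  exact ⟨ψ, a, b, fun s => by simp [c, k2, detChar_ne_zero c1]⟩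

theorem ext_det_unique {ψ ψ' : W → ℂ} (h : IsIrrCharacter W ψ) (h' : IsIrrCharacter W ψ')
    (hθ : IsIrrCharacter O fun o => ψ (inclusion l o))
    (e : ∀ o, ψ' (inclusion l o) = ψ (inclusion l o))
    (d : ∀ s, detChar ψ' (inclusion l' s) = detChar ψ (inclusion l' s)) : ψ' = ψ := by
  let E := NormalEmb.ofLe l (norm_of_sup_eq n hW)
  have cop : E.index.Coprime (♯O) := (piNat_index_sup hS n hW l).coprime hO
  have c := irr_isCharacter h
  have c' := irr_isCharacter h'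
  refine (E.existsUnique_ext_det hθ (BlockB.charDegree_eq (irr_isCharacter hθ)).symm
    (cop.coprime_dvd_right (charDegree_dvd_card hθ)) c (fun _ => rfl) (detHom c) fun o =>
      (congrFun (detChar_comp c E.ι) o).symm).unique ⟨h', e, funext fun x => ?_⟩ ⟨h, fun _ => rfl, rfl⟩
  obtain ⟨y, _, ⟨o, rfl⟩, rfl⟩ := exists_mul_sup n hW l l' x
  rw [coe_detHom, detChar_map_mul c, detChar_map_mul c', d]
  congr 1
  exact (congrFun (detChar_comp c' E.ι) o).symm.trans
    ((congrArg (detChar · o) (funext e)).trans (congrFun (detChar_comp c E.ι) o))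

end Det

theorem extTo_iff_pindex (hp : p.Prime) {O W B T : Subgroup G} (l : O ≤ W) (nO : O ⊴ B)
    (nW : W ⊴ B) (lT : O ≤ T) (hT : T ≤ B) (i1 : PiNat {p} (O.relIndex W))
    (i2 : PiNat {p}ᶜ (W.relIndex B)) (i3 : PiNat {p} (T.relIndex B)) {ψ : W → ℂ}
    (hψ : IsIrrCharacter W ψ) (hi : AInv W B ψ) (hθ : IsIrrCharacter O fun o => ψ (inclusion l o)) :
    ExtTo W.subtype ψ B ↔ ExtTo O.subtype (fun o => ψ (inclusion l o)) T := by
  refine ⟨fun ⟨η, h1, h2⟩ => ExtTo.mono ⟨η, h1, fun o => h2 (inclusion l o)⟩ hT,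
    fun ⟨ζ, z1, z2⟩ => ?_⟩
  let E := NormalEmb.ofLe nO.le (le_norm_iff.1 nO.norm)
  let E' := NormalEmb.ofLe nW.le (le_norm_iff.1 nW.norm)
  let F := NormalEmb.ofLe l (le_norm_iff.1 (nW.le.trans nO.norm))
  obtain ⟨η, h1, h2⟩ := E.exists_ext_of_forall_prime hθ (fun g o => hi g g.2 _ _ rfl)
    (BlockB.charDegree_eq (irr_isCharacter hθ)).symm fun q hq _ _ => by
      by_cases e : q = p
      · exact ⟨W.subgroupOf B, fun o => l o.2, fun x => ψ ⟨x, x.2⟩, i2.not_dvd' hq e,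
          char_comp (irr_isCharacter hψ) (subgroupOfEquivOfLe nW.le).toMonoidHom, fun _ => rfl⟩
      · exact ⟨T.subgroupOf B, fun o => lT o.2, fun x => ζ x, i3.not_dvd hq e,
          char_comp z1 (subgroupOfEquivOfLe hT).toMonoidHom, z2⟩
  have c1 := char_comp (irr_isCharacter h1) E'.ι
  obtain ⟨lam, l1, l2⟩ := F.exists_linear_of_ext hθ c1 (irr_isCharacter hψ) h2 fun _ => rfl
  have li : E'.Invariant fun w => (lam w : ℂ) := fun g => congrFun <|
    F.eq_of_mul_ext hθ c1 h2 (irr_comp_equiv (irr_linear lam) (E'.c g)) (irr_linear lam)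
      (fun o => by
        simp only [map_one]; exact congrArg Units.val (l1 (E.c g o))) (by simp [l1]) (funext fun w => by
        have := hi g g.2 w (E'.c g w) rfl
        rw [l2] at this
        simpa [E'.invariant_res (irr_isClassFunction h1) g w] using this)
  obtain ⟨ν, n1, n2⟩ := E'.exists_ext_of_coprime (irr_linear lam) li (d := 1) (by simp) (by
    rw [mul_one, NormalEmb.index_ofLe]
    refine (i2.coprime' i1).coprime_dvd_right ((detOrder_dvd_iff _ _).2 fun w => ?_)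
    have := DFunLike.congr_fun (F.linear_pow_index lam l1) w
    rw [NormalEmb.index_ofLe] at this
    simpa [detChar_linear] using congrArg Units.val this)
  exact extTo_of_char (fun w => nW.le w.2) (char_mul (irr_isCharacter n1) (irr_isCharacter h1))
    fun w => by rw [l2]; exact congrArg (· * _) (n2 w)

/-- The configuration `W = O S`, `C = C_O(S)`, `V = C S`. -/
structure MSet (p : ℕ) (O S W C V : Subgroup G) : Prop where
  hp : p.Prime
  hO : PiGrp {p}ᶜ O
  hS : PiGrp {p} S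
  n : S ≤ 𝐍 O
  eW : O ⊔ S = W
  eC : C = O ⊓ 𝐂 S
  eV : C ⊔ S = V

namespace MSet

variable {O S W C V : Subgroup G} (h : MSet p O S W C V)
include h

omit [Finite G]
theorem CO : C ≤ O := h.eC ▸ inf_le_left
theorem cS : C ≤ 𝐂 S := h.eC ▸ inf_le_right
theorem OW : O ≤ W := h.eW ▸ le_sup_left
theorem SW : S ≤ W := h.eW ▸ le_sup_right
theorem CV : C ≤ V := h.eV ▸ le_sup_left
theorem SV : S ≤ V := h.eV ▸ le_sup_right
theorem hC : PiGrp {p}ᶜ C := h.hO.le h.CO
theorem nC : S ≤ 𝐍 C := norm_of_cent' h.cS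
theorem VW : V ≤ W := h.eV ▸ sup_le (h.CO.trans h.OW) h.SW

/-- The correspondence between characters of `W` and of `V`. -/
def Rel (ψ : W → ℂ) (φ : V → ℂ) : Prop :=
  PCorr p (inclusion h.CO) (fun o => ψ (inclusion h.OW o)) (fun c => φ (inclusion h.CV c)) ∧
    ∀ s : S, detChar ψ (inclusion h.SW s) ^ charDegree φ = detChar φ (inclusion h.SV s) ^ charDegree ψ

variable [Finite G]

theorem resW {ψ : W → ℂ} (a : IsIrrCharacter W ψ) (b : ¬ p ∣ charDegree ψ) :
    IsIrrCharacter O fun o => ψ (inclusion h.OW o) :=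
  irr_res_of_not_dvd _ (piNat_index_sup h.hS h.n h.eW h.OW) a b

theorem resV {ψ : V → ℂ} (a : IsIrrCharacter V ψ) (b : ¬ p ∣ charDegree ψ) :
    IsIrrCharacter C fun o => ψ (inclusion h.CV o) :=
  irr_res_of_not_dvd _ (piNat_index_sup h.hS h.nC h.eV h.CV) a b

omit [Finite G] in
theorem invW {ψ : W → ℂ} (a : IsIrrCharacter W ψ) : AInv O S fun o => ψ (inclusion h.OW o) :=
  fun x hx _ _ e => aInv_self (irr_isClassFunction a) x (h.SW hx) _ _ e

theorem cop {d : ℕ} (b : ¬ p ∣ d) : (♯S).Coprime d := h.hS.coprime ((piNat_compl_single h.hp).2 b)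

theorem exists_root (τ : S →* ℂˣ) {d : ℕ} (b : ¬ p ∣ d) : ∃ σ : S →* ℂˣ, σ ^ d = τ := by
  obtain ⟨k, h1, m, rfl⟩ := exists_pow_exp (h.cop b).symm
  refine ⟨τ ^ m, ?_⟩
  refine (pow_mul' τ d m).symm.trans (pow_eq_self_of_pow_eq_one ?_ h1)
  ext s
  simp [← map_pow]

theorem det_cancel {X : Type*} [Group X] [Finite X] {ψ ψ' : X → ℂ} (a : IsIrrCharacter X ψ)
    (a' : IsIrrCharacter X ψ') (j : S →* X) {d : ℕ} (b : ¬ p ∣ d) (s : S)
    (e : detChar ψ (j s) ^ d = detChar ψ' (j s) ^ d) : detChar ψ (j s) = detChar ψ' (j s) := by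
  have := eq_of_pow_eq_of_coprime (a := detHom (irr_isCharacter a) (j s))
    (b := detHom (irr_isCharacter a') (j s)) (h.cop b)
    (by simp [mul_pow, ← map_pow]) (Units.ext (by simpa using e))
  simpa using congrArg Units.val this

theorem bij : Bij h.Rel (fun ψ => ¬ p ∣ charDegree ψ) (fun ψ => ¬ p ∣ charDegree ψ) := by
  have nS := le_norm_iff.1 h.n
  have b := bij_pgroup h.hp h.hS.isPGroup O (ambAut O S nS) (inclusion h.CO) (h.hS.coprime h.hO)
    (inclusion_injective _) (fix_amb nS h.eC h.CO)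
  have dg : ∀ {X : Subgroup G}, X ≤ O → ∀ {θ : X → ℂ}, IsIrrCharacter X θ → ¬ p ∣ charDegree θ :=
    fun l _ a d => (piNat_compl_single h.hp).1 (h.hO.le l) (d.trans (charDegree_dvd_card a))
  refine ⟨fun ψ a c => ?_, fun ψ φ φ' _ a a' c d d' r r' => ?_,
    fun ψ ψ' φ a a' a'' c c' d r r' => ?_, fun φ a c => ?_⟩
  · obtain ⟨β, h1, -, h2⟩ := b.ex _ (h.resW a c) ((invA_amb nS).2 (h.invW a))
    obtain ⟨σ, hσ⟩ := h.exists_root
      (((detHom (irr_isCharacter a)).comp (inclusion h.SW)) ^ charDegree β) c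
    obtain ⟨φ, f1, f2, f3⟩ := exists_ext_det h.hC h.hS h.nC h.eV h.CV h.SV h1
      (fun x hx k k' e => congrArg β (Subtype.ext (by
        rw [e, h.cS k.2 x hx, mul_inv_cancel_right]))) σ
    have e : charDegree φ = charDegree β := charDegree_congr (f2 1)
    refine ⟨φ, f1, e ▸ dg h.CO h1, by simpa only [f2] using h2, fun s => ?_⟩
    simpa [f3, e] using (congrArg Units.val (DFunLike.congr_fun hσ s)).symm
  · have e := congrFun (r.1.unique h.hp r'.1 (h.resV a d) (h.resV a' d'))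
    refine ext_det_unique h.hC h.hS h.nC h.eV h.CV h.SV a' a (h.resV a' d') e fun s =>
      h.det_cancel a a' _ c s ?_
    rw [← r.2, ← r'.2, charDegree_congr (e 1 : φ 1 = φ' 1)]
  · have e := congrFun (b.inj _ _ _ (h.resW a c) (h.resW a' c') (h.resV a'' d)
      ((invA_amb nS).2 (h.invW a)) ((invA_amb nS).2 (h.invW a')) trivial r.1 r'.1)
    refine ext_det_unique h.hO h.hS h.n h.eW h.OW h.SW a' a (h.resW a' c') e fun s =>
      h.det_cancel a a' _ d s ?_
    rw [r.2, r'.2, charDegree_congr (e 1 : ψ 1 = ψ' 1)]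
  · obtain ⟨θ, h1, h2, h3⟩ := b.surj _ (h.resV a c) trivial
    obtain ⟨σ, hσ⟩ := h.exists_root
      (((detHom (irr_isCharacter a)).comp (inclusion h.SV)) ^ charDegree θ) c
    obtain ⟨ψ, f1, f2, f3⟩ := exists_ext_det h.hO h.hS h.n h.eW h.OW h.SW h1
      ((invA_amb nS).1 h2) σ
    have e : charDegree ψ = charDegree θ := charDegree_congr (f2 1)
    refine ⟨ψ, f1, e ▸ dg le_rfl h1, by simpa only [f2] using h3, fun s => ?_⟩
    simpa [f3, e] using congrArg Units.val (DFunLike.congr_fun hσ s)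

theorem normC {x : G} (a : x ∈ 𝐍 O) (b : x ∈ 𝐍 S) : x ∈ 𝐍 C :=
  h.eC ▸ norm_inf_cent (zpowers_le.2 a) (zpowers_le.2 b) (mem_zpowers x)

theorem normW {x : G} (a : x ∈ 𝐍 O) (b : x ∈ 𝐍 S) : x ∈ 𝐍 W :=
  h.eW ▸ norm_sup (zpowers_le.2 a) (zpowers_le.2 b) (mem_zpowers x)

theorem normV {x : G} (a : x ∈ 𝐍 O) (b : x ∈ 𝐍 S) : x ∈ 𝐍 V :=
  h.eV ▸ norm_sup (zpowers_le.2 (h.normC a b)) (zpowers_le.2 b) (mem_zpowers x)

omit h in
theorem Rel.conj {h : MSet p O S W C V} {ψ : W → ℂ} {φ : V → ℂ} (r : h.Rel ψ φ)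
    (c : IsIrrCharacter W ψ) (d : IsIrrCharacter V φ) {x : G} (a : x ∈ 𝐍 O) (b : x ∈ 𝐍 S) :
    h.Rel (fun w => ψ (cA (h.normW a b) w)) fun v => φ (cA (h.normV a b) v) := by
  refine ⟨r.1.comp (cA a) (cA (h.normC a b)).toMonoidHom fun _ => rfl, fun s => ?_⟩
  have e1 := congrFun (detChar_comp (irr_isCharacter c) (cA (h.normW a b)).toMonoidHom)
  have e2 := congrFun (detChar_comp (irr_isCharacter d) (cA (h.normV a b)).toMonoidHom)
  simp only [MulEquiv.toMonoidHom_eq_coe, MonoidHom.coe_coe] at e1 e2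
  rw [e1, e2, charDegree_congr (χ := fun w => ψ (cA (h.normW a b) w)) (ψ := ψ) (by simp),
    charDegree_congr (χ := fun w => φ (cA (h.normV a b) w)) (ψ := φ) (by simp)]
  exact r.2 (cA b s)

omit h in
theorem Rel.central {h : MSet p O S W C V} {ψ : W → ℂ} {φ : V → ℂ} (r : h.Rel ψ φ)
    (a : IsIrrCharacter W ψ) (b : IsIrrCharacter V φ) (c : ¬ p ∣ charDegree ψ)
    (d : ¬ p ∣ charDegree φ) (z : V) (hz : (z : G) ∈ center G) :
    ψ (inclusion h.VW z) / ψ 1 = φ z / φ 1 := by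
  have cz : ∀ {X : Subgroup G} (y : X), (y : G) ∈ center G → y ∈ center X := fun y hy =>
    mem_center_iff.2 fun g => Subtype.ext (mem_center_iff.1 hy g)
  have m1 := fun y hy => char_mul_of_mem_charCenter (irr_one_ne_zero a)
    (center_le_charCenter a (cz y hy))
  have m2 := fun y hy => char_mul_of_mem_charCenter (irr_one_ne_zero b)
    (center_le_charCenter b (cz y hy))
  obtain ⟨x, hx, s, hs, e⟩ := (mem_sup_norm' h.nC).1 (h.eV.ge z.2)
  have cm : x * s = s * x := (h.cS hx s hs).symm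
  have cp : (orderOf x).Coprime (orderOf s) := (h.hC.elt hx).coprime' (h.hS.elt hs)
  have zx : x ∈ center G := zpowers_le.2 hz (e ▸ mem_zpowers_mul_left cm cp)
  have zs : s ∈ center G := zpowers_le.2 hz (e ▸ mem_zpowers_mul_right cm cp)
  have e1 : ψ ⟨x, h.OW (h.CO hx)⟩ / ψ 1 = φ ⟨x, h.CV hx⟩ / φ 1 := by
    have := Fintype.ofFinite C
    have k := r.1.inner_ne_zero h.hp (h.resV b d)
    have k2 := inner_comp_equiv (Equiv.mulLeft (⟨x, hx⟩ : C))
      (fun c => ψ (inclusion h.OW (inclusion h.CO c))) fun c => φ (inclusion h.CV c)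
    have n2 := (mem_charCenter_iff (irr_isCharacter b)).1
      (center_le_charCenter b (cz ⟨x, h.CV hx⟩ zx))
    rw [show (fun c => ψ (inclusion h.OW (inclusion h.CO (Equiv.mulLeft (⟨x, hx⟩ : C) c)))) =
        (ψ ⟨x, h.OW (h.CO hx)⟩ / ψ 1) • fun c => ψ (inclusion h.OW (inclusion h.CO c)) from
        funext fun c => m1 ⟨x, h.OW (h.CO hx)⟩ zx ⟨c, h.OW (h.CO c.2)⟩,
      show (fun c => φ (inclusion h.CV (Equiv.mulLeft (⟨x, hx⟩ : C) c))) =
        (φ ⟨x, h.CV hx⟩ / φ 1) • fun c => φ (inclusion h.CV c) from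
        funext fun c => m2 ⟨x, h.CV hx⟩ zx ⟨c, h.CV c.2⟩,
      inner_smul_left, inner_smul_right, ← mul_assoc, mul_eq_right₀ k] at k2
    have n3 : φ ⟨x, h.CV hx⟩ / φ 1 * conj (φ ⟨x, h.CV hx⟩ / φ 1) = 1 := by
      rw [Complex.mul_conj, Complex.normSq_eq_norm_sq, norm_div, n2,
        div_self (norm_ne_zero_iff.2 (irr_one_ne_zero b))]
      simp
    exact mul_right_cancel₀ (right_ne_zero_of_mul_eq_one n3) (k2.trans n3.symm)
  have e2 : ψ ⟨s, h.SW hs⟩ / ψ 1 = φ ⟨s, h.SV hs⟩ / φ 1 := by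
    have k := r.2 ⟨s, hs⟩
    rw [detChar_of_center a (cz _ zs), detChar_of_center b (cz _ zs), ← pow_mul, ← pow_mul,
      mul_comm (charDegree φ)] at k
    obtain ⟨l1, hl1⟩ := exists_linear_of_le_charCenter (irr_one_ne_zero a) _
      (center_le_charCenter a)
    obtain ⟨l2, hl2⟩ := exists_linear_of_le_charCenter (irr_one_ne_zero b) _
      (center_le_charCenter b)
    have k1 := hl1 ⟨⟨s, h.SW hs⟩, cz _ zs⟩ 1
    have k2 := hl2 ⟨⟨s, h.SV hs⟩, cz _ zs⟩ 1
    rw [mul_one, ← div_eq_iff (irr_one_ne_zero ‹_›)] at k1 k2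
    have ps : s ^ ♯S = 1 := orderOf_dvd_iff_pow_eq_one.1 (orderOf_dvd_card' hs)
    refine k1.trans ((congrArg Units.val (eq_of_pow_eq_of_coprime ((h.cop c).mul_right (h.cop d))
      ?_ (Units.ext ?_))).trans k2.symm)
    · rw [mul_pow, inv_pow, ← map_pow, ← map_pow, show (_ ^ ♯S : center W) = 1 from
        Subtype.ext (Subtype.ext ps), show (_ ^ ♯S : center V) = 1 from
        Subtype.ext (Subtype.ext ps)]
      simp
    · simp only [Units.val_pow_eq_pow_val, ← k1, ← k2]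
      exact k
  obtain rfl : z = ⟨x, h.CV hx⟩ * ⟨s, h.SV hs⟩ := Subtype.ext e.symm
  rw [m2 _ zx, mul_div_assoc, ← e1, ← e2, ← mul_div_assoc, ← m1 _ zx]
  rfl

end MSet

end CF.Char
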