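import Cfsg.Agent.Char.Triple
import Cfsg.Agent.Clifford.GoingDown
import Cfsg.Agent.BG.B10

/-! The Okuyama–Wajima extension theorem. -/

namespace CF.Char

open Cfsg CF.Clifford CF.BG Subgroup
open scoped ComplexConjugate commutatorElement

universe u

variable {p : ℕ}

theorem linear_eq_one_of_mul_ext {N G : Type*} [Group N] [Group G] [Finite G] (E : NormalEmb N G)
    {θ : N → ℂ} (hθ : IsIrrCharacter N θ) {χ : G → ℂ} (hχ : IsCharacter G χ)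
    (hext : ∀ n, χ (E.ι n) = θ n) {ν : G →* ℂˣ} (h1 : ∀ n, ν (E.ι n) = 1)
    (h : ∀ g, ν g * χ g = χ g) : ν = 1 := by
  have := Finite.of_injective _ E.inj
  have := E.eq_of_mul_ext hθ hχ hext (irr_linear ν) irr_one (by simp [h1]) (fun _ => rfl)
    (funext fun g => by simpa using h g)
  ext g
  simpa using congrFun this g

theorem pcorr_linear_mul {G C : Type*} [Group G] [Group C] {j : C →* G} {χ : G → ℂ} {β : C → ℂ}
    (h : PCorr p j χ β) (ν : G →* ℂˣ) :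
    PCorr p j (fun g => ν g * χ g) fun c => ν (j c) * β c := by
  obtain ⟨ε, h1, ϑ, h2, h3⟩ := h
  exact ⟨ε, h1, _, gen_mul (gen_of_irr (irr_linear (ν.comp j))) h2, fun c => by
    simp only [h3, Pi.mul_apply, MonoidHom.comp_apply]; ring⟩

theorem ov_linear_mul {G N : Type*} [Group G] [Group N] {j : N →* G} {θ : N → ℂ} {χ : G → ℂ}
    {ν : G →* ℂˣ} (h : ∀ n, ν (j n) = 1) : Ov j θ (fun g => ν g * χ g) ↔ Ov j θ χ :=
  ov_congr fun n => by simp [h]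

theorem ow_step (hp : p.Prime) {Z K M₁ K₁ : Type*} {M : Type u} [Group Z] [Group M] [Group K]
    [Group M₁] [Group K₁] [Finite Z] [Finite M] (hZ : IsPGroup p Z) (hM : ¬ p ∣ Nat.card M)
    (E : NormalEmb K M) (E₁ : NormalEmb K₁ M₁) (j : M₁ →* M) (i : K₁ →* K)
    (inj : Function.Injective j) (sq : ∀ k, j (E₁.ι k) = E.ι (i k))
    (hc : _root_.commutator M ≤ E.ι.range) (sur : ∀ m, ∃ y, ∃ r ∈ E.ι.range, m = j y * r)
    (cm : ∀ y, j y ∈ E.ι.range → y ∈ E₁.ι.range) (φ : Z →* MulAut M) (φK : Z →* MulAut K)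
    (e : ∀ s k, φ s (E.ι k) = E.ι (φK s k)) (fix : ∀ m, m ∈ j.range ↔ ∀ s, φ s m = m)
    {θ : K → ℂ} {θ₁ : K₁ → ℂ} (hθ : IsIrrCharacter K θ) (hθ₁ : IsIrrCharacter K₁ θ₁)
    (inv : E.Invariant θ) (inv₁ : E₁.Invariant θ₁) (invZ : ∀ s k, θ (φK s k) = θ k)
    (pc : PCorr p i θ θ₁) :
    Bij (PCorr p j) (fun ψ => ∀ k, ψ (E.ι k) = θ k) (fun ψ => ∀ k, ψ (E₁.ι k) = θ₁ k) := by
  have := Fact.mk hp
  have := Finite.of_injective _ inj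
  have := Finite.of_injective _ E.inj
  have := Finite.of_injective _ E₁.inj
  have := Fintype.ofFinite K
  have := Fintype.ofFinite K₁
  obtain ⟨a, ha⟩ := hZ.exists_card_eq
  have cop : (Nat.card Z).Coprime (Nat.card M) :=
    ha ▸ ((Nat.Prime.coprime_iff_not_dvd hp).2 hM).pow_left a
  have b := bij_pgroup hp hZ M φ j cop inj fix
  have hc₁ : _root_.commutator M₁ ≤ E₁.ι.range := by
    rw [commutator_def, commutator_le]
    intro x _ y _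
    exact cm _ (map_commutatorElement j x y ▸ hc (commutator_mem_commutator trivial trivial))
  have hI : E.index ∣ Nat.card M := Subgroup.index_dvd_card _
  have li : ∀ ν : M →* ℂˣ, (∀ k, ν (E.ι k) = 1) → ∀ s m, ν (φ s m) = ν m := fun ν h s m => by
    obtain ⟨y, _, ⟨k, rfl⟩, rfl⟩ := sur m
    simp [(fix _).1 ⟨y, rfl⟩ s, e, h]
  have F1 : ∀ ψ, IsIrrCharacter M ψ → Ov E.ι θ ψ → InvA (Set.range φ) ψ := fun ψ h1 h2 => by
    obtain ⟨χ, c1, c2, c3⟩ := E.exists_inv_over_of_comm hc φ φK e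
      (cop.symm.coprime_dvd_left hI) hθ invZ
    obtain ⟨ν, n1, rfl⟩ := E.exists_linear_mul hc hθ c1 h1 c2 (ov_iff.1 h2)
    exact invA_range.2 fun s m => by simp only [li ν n1, c3]
  have F2 : ∀ ψ ψ₁, IsIrrCharacter M ψ → IsIrrCharacter M₁ ψ₁ → Ov E.ι θ ψ → PCorr p j ψ ψ₁ →
      Ov E₁.ι θ₁ ψ₁ := fun ψ ψ₁ h1 h2 h3 ⟨ε, _, ϑ, t1, t2⟩ => by
    obtain ⟨d, -, hd⟩ := h3.res_eq h1 hθ inv
    have pd : ¬ p ∣ d := fun h => hM ((h.trans (E.ramification_dvd_index hθ h1 hd)).trans hI)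
    obtain ⟨m, hm⟩ := inner_gen_eq_int (gen_comp (gen_of_irr hθ) i) (gen_of_irr hθ₁)
    have pm := (pc.not_dvd_iff hp hθ₁ hθ₁ hm).2 rfl
    obtain ⟨n, hn⟩ := inner_gen_eq_int (gen_comp t1 E₁.ι) (gen_of_irr hθ₁)
    rw [ov_iff]
    intro h0
    have : (d : ℂ) • (fun k => θ (i k)) =
        (ε : ℂ) • (fun k => ψ₁ (E₁.ι k)) + (p : ℂ) • fun k => ϑ (E₁.ι k) := funext fun k => by
      simpa [sq, congrFun hd (i k)] using t2 (E₁.ι k)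
    have := congrArg (classInner · θ₁) this
    simp only [inner_add_left, inner_smul_left, hm, hn, h0, mul_zero, zero_add] at this
    have : (p : ℤ) ∣ d * m := ⟨n, by exact_mod_cast this⟩
    rcases (Nat.prime_iff_prime_int.1 hp).dvd_or_dvd this with h | h
    · exact pd (by exact_mod_cast h)
    · exact pm h
  have up : ∀ lam : M₁ →* ℂˣ, (∀ k, lam (E₁.ι k) = 1) →
      ∃ ν : M →* ℂˣ, (∀ k, ν (E.ι k) = 1) ∧ ∀ y, ν (j y) = lam y := fun lam h => by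
    obtain ⟨ν, n1, n2⟩ := exists_hom_of_sup j E.ι.range sur lam fun y hy => by
      obtain ⟨k, rfl⟩ := cm y hy
      exact h k
    exact ⟨ν, fun k => n1 _ ⟨k, rfl⟩, n2⟩
  have F4 : ∀ ψ ψ₁, IsIrrCharacter M ψ → IsIrrCharacter M₁ ψ₁ → (∀ k, ψ (E.ι k) = θ k) →
      PCorr p j ψ ψ₁ → ∀ k, ψ₁ (E₁.ι k) = θ₁ k := fun ψ ψ₁ h1 h2 h3 h4 => by
    have o := ov_of_ext hθ h3
    obtain ⟨d, -, hd⟩ := (F2 ψ ψ₁ h1 h2 o h4).res_eq h2 hθ₁ inv₁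
    obtain rfl := E₁.eq_one_of_no_fixing_linear hc₁ h2 hθ₁ hd fun lam l1 l2 => by
      obtain ⟨ν, n1, n2⟩ := up lam l1
      have i1 := irr_linear_mul ν h1
      have := b.inj _ _ _ i1 h1 h2 (F1 _ i1 ((ov_linear_mul n1).2 o)) (F1 _ h1 o) trivial
        (by simpa only [n2, l2] using pcorr_linear_mul h4 ν) h4
      obtain rfl := linear_eq_one_of_mul_ext E hθ (irr_isCharacter h1) h3 n1 (congrFun this)
      ext y
      rw [← n2]; rfl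
    simpa using congrFun hd
  have F5 : ∀ ψ ψ₁, IsIrrCharacter M ψ → IsIrrCharacter M₁ ψ₁ → Ov E.ι θ ψ →
      (∀ k, ψ₁ (E₁.ι k) = θ₁ k) → PCorr p j ψ ψ₁ → ∀ k, ψ (E.ι k) = θ k :=
    fun ψ ψ₁ h1 h2 o h3 h4 => by
      obtain ⟨d, -, hd⟩ := o.res_eq h1 hθ inv
      obtain rfl := E.eq_one_of_no_fixing_linear hc h1 hθ hd fun ν n1 n2 => by
        have := pcorr_linear_mul h4 ν
        simp only [n2] at this
        have := PCorr.unique hp this h4 (irr_linear_mul (ν.comp j) h2) h2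
        have := linear_eq_one_of_mul_ext E₁ hθ₁ (irr_isCharacter h2) h3 (ν := ν.comp j)
          (fun k => by simp [sq, n1]) (congrFun this)
        ext m
        obtain ⟨y, _, ⟨k, rfl⟩, rfl⟩ := sur m
        simpa [n1] using DFunLike.congr_fun this y
      simpa using congrFun hd
  refine ⟨fun ψ h1 h2 => ?_, fun ψ β γ _ h2 h3 _ _ _ h7 h8 => h7.unique hp h8 h2 h3,
    fun ψ χ β h1 h2 h3 h4 h5 _ => b.inj _ _ _ h1 h2 h3 (F1 _ h1 (ov_of_ext hθ h4))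
      (F1 _ h2 (ov_of_ext hθ h5)) trivial, fun ψ₁ h1 h2 => ?_⟩
  · obtain ⟨β, h3, -, h4⟩ := b.ex ψ h1 (F1 _ h1 (ov_of_ext hθ h2))
    exact ⟨β, h3, F4 ψ β h1 h3 h2 h4, h4⟩
  · obtain ⟨χ, c1, c2⟩ := exists_irr_ov E.ι E.inj hθ
    obtain ⟨β, h3, -, h4⟩ := b.ex χ c1 (F1 _ c1 c2)
    obtain ⟨lam, l1, rfl⟩ := E₁.exists_linear_mul hc₁ hθ₁ h3 h1 (ov_iff.1 (F2 χ β c1 h3 c2 h4))
      (ov_iff.1 (ov_of_ext hθ₁ h2))
    obtain ⟨ν, n1, n2⟩ := up lam l1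
    have h5 := pcorr_linear_mul h4 ν
    simp only [n2] at h5
    exact ⟨_, irr_linear_mul ν c1, F5 _ _ (irr_linear_mul ν c1) h1 ((ov_linear_mul n1).2 c2) h2 h5,
      h5⟩

variable {G : Type u} [Group G] [Finite G]

/-- Invariance under conjugation of a function on a subgroup. -/
def AInv (K X : Subgroup G) (θ : K → ℂ) : Prop :=
  ∀ x ∈ X, ∀ k k' : K, (k' : G) = x * k * x⁻¹ → θ k' = θ k

/-- Conjugation by a normalizing element. -/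
def cA {K : Subgroup G} {x : G} (h : x ∈ 𝐍 K) : MulAut K :=
  ambAut K (𝐍 K) (fun _ h _ k => conj_mem_of_norm h k) ⟨x, h⟩

omit [Finite G] in
@[simp] theorem coe_cA {K : Subgroup G} {x : G} (h : x ∈ 𝐍 K) (k : K) :
    (cA h k : G) = x * k * x⁻¹ := rfl

omit [Finite G] in
theorem aInv_iff {K X : Subgroup G} (n : X ≤ 𝐍 K) {θ : K → ℂ} :
    AInv K X θ ↔ ∀ x (h : x ∈ X) k, θ (cA (n h) k) = θ k :=
  ⟨fun H x h k => H x h k _ rfl, fun H x h k k' e => by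
    rw [← H x h k]; exact congrArg θ (Subtype.ext e)⟩

omit [Finite G] in
theorem AInv.mono {K X Y : Subgroup G} {θ : K → ℂ} (h : AInv K X θ) (l : Y ≤ X) : AInv K Y θ :=
  fun x hx => h x (l hx)

omit [Finite G] in
theorem aInv_self {K : Subgroup G} {θ : K → ℂ} (h : IsClassFunction K θ) : AInv K K θ :=
  fun x hx k k' e => by
    rw [← classFun_conj h k ⟨x, hx⟩]; exact congrArg θ (Subtype.ext e)

omit [Finite G] in
theorem AInv.sup {K X Y : Subgroup G} {θ : K → ℂ} (h : AInv K X θ) (k : AInv K Y θ)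
    (a : X ≤ 𝐍 K) (b : Y ≤ 𝐍 K) : AInv K (X ⊔ Y) θ := by
  let E := NormalEmb.ofLe (le_norm_self K) fun _ h _ k => conj_mem_of_norm h k
  have : X ⊔ Y ≤ (E.inertia θ).map (Subgroup.subtype _) :=
    sup_le (fun x hx => ⟨⟨x, a hx⟩, E.mem_inertia'.2 fun _ => h x hx _ _ rfl, rfl⟩)
      fun x hx => ⟨⟨x, b hx⟩, E.mem_inertia'.2 fun _ => k x hx _ _ rfl, rfl⟩
  intro x hx y y' e
  obtain ⟨z, hz, rfl⟩ := this hx
  rw [← E.mem_inertia'.1 hz y]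
  exact congrArg θ (Subtype.ext e)

omit [Finite G] in
theorem AInv.invariant {K X : Subgroup G} {θ : K → ℂ} (h : AInv K X θ) (l : K ≤ X)
    (n : ∀ t ∈ X, ∀ k ∈ K, t * k * t⁻¹ ∈ K) : (NormalEmb.ofLe l n).Invariant θ :=
  fun g _ => h g g.2 _ _ rfl

theorem AInv.of_pcorr (hp : p.Prime) {K C X : Subgroup G} (l : C ≤ K) {θ : K → ℂ} {β : C → ℂ}
    (h : AInv K X θ) (c : PCorr p (inclusion l) θ β) (hβ : IsIrrCharacter C β) (n : X ≤ 𝐍 C) :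
    AInv C X β := (aInv_iff n).2 fun x hx => congrFun <| by
  refine PCorr.unique hp ?_ c (irr_comp_equiv hβ (cA (n hx))) hβ
  obtain ⟨ε, h1, ϑ, h2, h3⟩ := c
  exact ⟨ε, h1, _, gen_comp h2 (cA (n hx)).toMonoidHom, fun k =>
    (h x hx (inclusion l k) (inclusion l (cA (n hx) k)) rfl).symm.trans (h3 _)⟩

theorem extTo_iff_of_cyclic {K M U H : Subgroup G} (l : K ≤ M) (hU : M ⊔ H = U) (n : H ≤ 𝐍 M)
    {h : G} (hh : h ∈ H) (c : H ≤ M ⊔ zpowers h) {θ : K → ℂ} (hθ : IsIrrCharacter K θ) :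
    ExtTo K.subtype θ U ↔ ∃ ψ, IsIrrCharacter M ψ ∧ (∀ k, ψ (inclusion l k) = θ k) ∧ AInv M H ψ := by
  subst hU
  refine ⟨fun ⟨η, h1, h2⟩ => ⟨fun m => η m, irr_of_comp_irr (inclusion l)
    (char_comp h1 (inclusion le_sup_left)) ((funext h2 : _ = θ) ▸ hθ), h2, fun x hx m m' e => ?_⟩,
    fun ⟨ψ, h1, h2, h3⟩ => ?_⟩
  · change η m' = η m
    rw [e]
    exact classFun_conj (char_isClassFunction h1) ⟨m, mem_sup_left m.2⟩ ⟨x, mem_sup_right hx⟩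
  · have nM : M ⊔ H ≤ 𝐍 M := sup_le (le_norm_self M) n
    let E := NormalEmb.ofLe (le_sup_left : M ≤ M ⊔ H) fun _ a _ b => conj_mem_of_norm (nM a) b
    obtain ⟨χ, c1, c2⟩ := E.exists_ext_of_isCyclic h1
      (((aInv_self (irr_isClassFunction h1)).sup h3 (le_norm_self M) n).invariant _ _) (by
        refine ⟨⟨(⟨h, mem_sup_right hh⟩ : ↥(M ⊔ H)), fun x => ?_⟩⟩
        obtain ⟨y, rfl⟩ := QuotientGroup.mk_surjective x
        obtain ⟨a, ha, _, ⟨k, rfl⟩, e⟩ := (mem_sup_norm' (zpowers_le.2 (n hh))).1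
          ((sup_le le_sup_left c : M ⊔ H ≤ _) y.2)
        refine ⟨k, ?_⟩
        simp only [← QuotientGroup.mk_zpow]
        rw [eq_comm, QuotientGroup.eq_iff_div_mem]
        exact ⟨⟨a, ha⟩, Subtype.ext (by simp [E, NormalEmb.ofLe, ← e])⟩)
    exact extTo_of_char (fun k => mem_sup_left (l k.2)) (irr_isCharacter c1) fun k =>
      (c2 (inclusion l k)).trans (h2 k)

theorem exists_ow_pair {P H K C : Subgroup G} (hP : PiGrp {p} P) (hH : PiGrp {p}ᶜ H) (nP : H ≤ 𝐍 P)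
    (hC : C ≤ H) (cC : C ≤ 𝐂 P) (dH : ⁅H, H⁆ ≤ C) (a : P ≤ 𝐍 K) (b : H ≤ 𝐍 K) (nc : ¬ P ≤ 𝐂 K) :
    ∃ D Z, C ≤ D ∧ D ≤ H ∧ (∃ h ∈ H, H ≤ D ⊔ zpowers h) ∧ Z ≤ P ∧ D ≤ 𝐂 Z ∧ H ≤ 𝐍 Z ∧
      ⁅Z, P⁆ ≤ 𝐂 K ∧ ¬ Z ≤ 𝐂 K := by
  obtain ⟨Y, y1, ⟨y2, y3, y4⟩, y5⟩ := exists_minimal
    (P := fun Y => P ≤ 𝐍 Y ∧ H ≤ 𝐍 Y ∧ ¬ Y ≤ 𝐂 K) ⟨le_norm_self P, nP, nc⟩
  have y6 : ⁅Y, P⁆ ≤ 𝐂 K := by
    by_contra h
    exact (hP.comm_lt (hP.le y1) y2 (by rintro rfl; exact y4 bot_le)).ne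
      (y5 _ ⟨norm_commutator y2 (le_norm_self P), norm_commutator y3 nP, h⟩ (comm_le_left y2))
  have nC : H ≤ 𝐍 C := norm_of_der_le hC dH
  have yC : Y ≤ 𝐍 C := norm_of_cent' (cC.trans (cent_anti y1))
  have iC : Y ⊓ C = ⊥ := (hP.le y1).inf_eq_bot (hH.le hC)
  have : ¬ qt C Y ≤ qt C (Y ⊓ 𝐂 K) := fun h => y4 <| by
    rw [qt_le_qt_iff yC (inf_le_left.trans yC)] at h
    have := le_inf h le_rfl
    rw [sup_inf_right inf_le_left (Or.inr (inf_le_left.trans yC)), inf_comm C, iC,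
      bot_sup_eq] at this
    exact this.trans inf_le_right
  have := mt (Abel.le_of_cocyc ((abel_qt_iff nC).2 dH) (qt_norm C y3)
    (coprime_qt C (hH.coprime' (hP.le y1)))) this
  push Not at this
  obtain ⟨B, b1, b2, b3⟩ := this
  have d1 : qp C B ≤ H := qp_le_of_le_qt ⟨hC, nC⟩ b1
  have nD : H ≤ 𝐍 (qp C B) := norm_of_der_le d1 (dH.trans (le_qp B))
  refine ⟨qp C B, Y ⊓ 𝐂 (qp C B), le_qp B, d1, ?_, inf_le_left.trans y1, cent_symm inf_le_right,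
    norm_inf_cent y3 nD, (commutator_mono inf_le_left le_rfl).trans y6, fun h => b3 ?_⟩
  · obtain ⟨x, hx, e⟩ := (cyc_qt_iff (((abel_qt_iff nC).2 dH).le_norm b1)).1 b2
    obtain ⟨h, h1, h2, rfl⟩ := mem_qt.1 hx
    refine ⟨h, h1, ?_⟩
    rw [← qt_zpowers h2, qt_le_iff nC, qp_sup, qp_qt (zpowers_le.2 h2), ← sup_assoc,
      sup_eq_left.2 (le_qp B)] at e
    exact e
  · conv_lhs => rw [← qt_qp B]
    rw [← qt_inf_cent (qp_le_norm B) (d1.trans y3) (by simp [iC]) (Or.inr (iC ▸ nil_bot.sol))]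
    exact qt_mono C (le_inf inf_le_left h)

/-- The Okuyama–Wajima theorem. -/
theorem okuyama_wajima (hp : p.Prime) {P H C : Subgroup G} (hP : PiGrp {p} P) (hH : PiGrp {p}ᶜ H)
    (nP : H ≤ 𝐍 P) (hC : C ≤ H) (dH : ⁅H, H⁆ ≤ C) {β : C → ℂ} (hβ : IsIrrCharacter C β)
    (K : Subgroup G) : PiGrp {p}ᶜ K → P ≤ 𝐍 K → H ≤ 𝐍 K → C = K ⊓ 𝐂 P → ∀ (l : C ≤ K) (θ : K → ℂ),
      IsIrrCharacter K θ → AInv K P θ → AInv K H θ → PCorr p (inclusion l) θ β →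
      (ExtTo K.subtype θ (K ⊔ H) ↔ ExtTo C.subtype β H) := by
  induction K using card_induction with | h K ih =>
  intro hK a b eC l θ hθ iP iH pc
  have cC : C ≤ 𝐂 P := eC ▸ inf_le_right
  by_cases nc : P ≤ 𝐂 K
  · obtain rfl : C = K := eC.trans (inf_eq_left.2 (cent_symm nc))
    obtain rfl : θ = β := PCorr.unique hp ⟨1, Or.inl rfl, 0, gen_zero, fun c => by simp; rfl⟩ pc hθ hβ
    rw [sup_eq_right.2 hC]
  obtain ⟨D, Z, d1, d2, ⟨h, hh, d3⟩, z1, z2, z3, z4, z5⟩ := exists_ow_pair hP hH nP hC cC dH a b nc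
  have cop : ∀ {X Y : Subgroup G}, X ≤ P → PiGrp {p}ᶜ Y → (♯X).Coprime (♯Y) := fun h k =>
    (hP.le h).coprime k
  obtain ⟨K₁, e₁⟩ : ∃ K₁, K₁ = K ⊓ 𝐂 Z := ⟨_, rfl⟩
  have l₁ : K₁ ≤ K := e₁ ▸ inf_le_left
  have b₁ : H ≤ 𝐍 K₁ := e₁ ▸ norm_inf_cent b z3
  have a₁ : P ≤ 𝐍 K₁ := by
    have : K₁ = K ⊓ 𝐂 (Z ⊔ P ⊓ 𝐂 K) := by
      rw [cent_sup, e₁, inf_comm (𝐂 Z), ← inf_assoc, inf_eq_left.2 (cent_symm inf_le_right)]
    rw [this]
    refine norm_inf_cent a (norm_of_comm_le ((comm_sup_le ?_ ?_ ?_ ?_).trans le_sup_right))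
    · exact le_inf (comm_le_right (norm_of_le z1)) z4
    · exact comm_le_left (norm_inf_cent (le_norm_self P) a)
    · exact z1.trans (norm_inf_cent (le_norm_self P) a)
    · exact le_norm_self _
  have eC₁ : C = K₁ ⊓ 𝐂 P := by rw [e₁, inf_assoc, inf_eq_right.2 (cent_anti z1), eC]
  have lC : C ≤ K₁ := eC₁ ▸ inf_le_left
  have nZ : ∀ s ∈ Z, ∀ k ∈ K, s * k * s⁻¹ ∈ K := le_norm_iff.1 (z1.trans a)
  obtain ⟨θ₁, hθ₁, -, pc₁⟩ := (bij_pgroup hp (hP.le z1).isPGroup K (ambAut K Z nZ) (inclusion l₁)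
    (cop z1 hK) (inclusion_injective _) (fix_amb nZ e₁ l₁)).ex θ hθ ((invA_amb nZ).2 (iP.mono z1))
  have iP₁ := iP.of_pcorr hp l₁ pc₁ hθ₁ a₁
  have iH₁ := iH.of_pcorr hp l₁ pc₁ hθ₁ b₁
  obtain ⟨γ, hγ, -, pc₂⟩ := (bij_pgroup hp hP.isPGroup K₁ (ambAut K₁ P (le_norm_iff.1 a₁))
    (inclusion lC) (cop le_rfl (hK.le l₁)) (inclusion_injective _) (fix_amb _ eC₁ lC)).ex θ₁ hθ₁
    ((invA_amb _).2 iP₁)
  obtain rfl : β = γ := pc.unique hp (pc₁.trans pc₂) hβ hγ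
  rw [← ih K₁ (card_lt (lt_of_le_of_ne l₁ fun e => z5 (cent_symm (e ▸ e₁ ▸ inf_le_right))))
    (hK.le l₁) a₁ b₁ eC₁ lC θ₁ hθ₁ iP₁ iH₁ pc₂]
  have nD : H ≤ 𝐍 D := norm_of_der_le d2 (dH.trans d1)
  have nM : H ≤ 𝐍 (K ⊔ D) := norm_sup b nD
  have nM₁ : H ≤ 𝐍 (K₁ ⊔ D) := norm_sup b₁ nD
  rw [extTo_iff_of_cyclic (M := K ⊔ D) le_sup_left (by rw [sup_assoc, sup_eq_right.2 d2]) nM hh
      (d3.trans (sup_le_sup_right le_sup_right _)) hθ,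
    extTo_iff_of_cyclic (M := K₁ ⊔ D) le_sup_left (by rw [sup_assoc, sup_eq_right.2 d2]) nM₁ hh
      (d3.trans (sup_le_sup_right le_sup_right _)) hθ₁]
  have lM : K₁ ⊔ D ≤ K ⊔ D := sup_le_sup_right l₁ D
  have zM : ∀ s ∈ Z, ∀ k ∈ K ⊔ D, s * k * s⁻¹ ∈ K ⊔ D :=
    le_norm_iff.1 (norm_sup (z1.trans a) (norm_of_cent' z2))
  have kM : K ⊔ D ≤ 𝐍 K := sup_le (le_norm_self K) (d2.trans b)
  have kM₁ : K₁ ⊔ D ≤ 𝐍 K₁ := sup_le (le_norm_self K₁) (d2.trans b₁)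
  have B := ow_step hp (hP.le z1).isPGroup
    ((piNat_compl_single hp).1 (hK.sup (hH.le d2) (Or.inr (d2.trans b))))
    (NormalEmb.ofLe le_sup_left (le_norm_iff.1 kM)) (NormalEmb.ofLe le_sup_left (le_norm_iff.1 kM₁))
    (inclusion lM) (inclusion l₁) (inclusion_injective _) (fun _ => rfl)
    (commutator_le_range_ofLe _ _ (comm_sup_le (comm_le_left kM)
      (comm_sup_le' (comm_le_right (d2.trans b)) (((der_mono d2).trans dH).trans l)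
        (le_norm_self K) (d2.trans b)) (le_norm_self K) (d2.trans b)))
    (fun m => by
      obtain ⟨x, hx, y, hy, e⟩ := (mem_sup_norm (d2.trans b)).1 ((sup_comm K D).le m.2)
      exact ⟨⟨x, mem_sup_right hx⟩, _, ⟨⟨y, hy⟩, rfl⟩, Subtype.ext e.symm⟩)
    (fun y ⟨k, hk⟩ => by
      have h0 : (k : G) = y := congrArg Subtype.val hk
      have h1 : (y : G) ∈ K := h0 ▸ k.2
      have h2 : (y : G) ∈ 𝐂 Z := (sup_le (e₁ ▸ inf_le_right) z2 : K₁ ⊔ D ≤ _) y.2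
      exact ⟨⟨y, e₁.ge ⟨h1, h2⟩⟩, rfl⟩)
    (ambAut _ Z zM) (ambAut K Z nZ) (fun _ _ => rfl)
    (fix_amb zM (by rw [sup_inf_right z2 (Or.inr (d2.trans b)), e₁]) lM) hθ hθ₁
    (((aInv_self (irr_isClassFunction hθ)).sup (iH.mono d2) (le_norm_self _)
      (d2.trans b)).invariant _ _)
    (((aInv_self (irr_isClassFunction hθ₁)).sup (iH₁.mono d2) (le_norm_self _)
      (d2.trans b₁)).invariant _ _) (fun s _ => iP s (z1 s.2) _ _ rfl) pc₁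
  refine ⟨fun ⟨ψ, h1, h2, h3⟩ => ?_, fun ⟨ψ₁, h1, h2, h3⟩ => ?_⟩
  · obtain ⟨ψ₁, h4, h5, h6⟩ := B.ex ψ h1 h2
    exact ⟨ψ₁, h4, h5, h3.of_pcorr hp lM h6 h4 nM₁⟩
  · obtain ⟨ψ, h4, h5, h6⟩ := B.surj ψ₁ h1 h2
    refine ⟨ψ, h4, h5, (aInv_iff nM).2 fun x hx => congrFun (B.inj _ _ ψ₁
      (irr_comp_equiv h4 (cA (nM hx))) h4 h1 (fun k => ?_) h5 h2 ?_ h6)⟩
    · exact (h5 (cA (b hx) k)).trans (iH x hx _ _ rfl)
    · have := h6.comp (cA (nM hx)) (cA (nM₁ hx)).toMonoidHom fun _ => rfl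
      rwa [show (fun c => ψ₁ ((cA (nM₁ hx)).toMonoidHom c)) = ψ₁ from
        funext ((aInv_iff nM₁).1 h3 x hx)] at this

end CF.Char
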