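import Cfsg.Agent.Char.McKay
import Cfsg.Agent.BlockB.Ord3
import Cfsg.Agent.Solv.FrattiniP

/-! Real characters of odd degree of solvable groups. -/

namespace CF.Char

open Cfsg CF.Clifford CF.BG Subgroup
open scoped ComplexConjugate commutatorElement

universe u

variable {G H K Q : Type*} [Group G] [Group H] [Group K] [Group Q]

/-- Real of odd degree. -/
def RO (χ : G → ℂ) : Prop := (∀ g, (χ g).im = 0) ∧ Odd (charDegree χ)

/-- The number of real irreducible characters of odd degree over `θ`. -/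
noncomputable def ro (j : K →* G) (θ : K → ℂ) : ℕ :=
  Nat.card {χ : IrrCharacter G // Ov j θ χ ∧ RO (χ : G → ℂ)}

/-- The number of real irreducible characters of odd degree. -/
noncomputable def ro1 (G : Type*) [Group G] : ℕ := Nat.card {χ : IrrCharacter G // RO (χ : G → ℂ)}

theorem ro_comp_iff {β : H → ℂ} {a : G →* H} (ha : Function.Surjective a) :
    RO (fun g => β (a g)) ↔ RO β :=
  and_congr (ha.forall (p := fun x => (β x).im = 0)).symm (by rw [charDegree_congr (ψ := β) (by simp)])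

theorem real_iff {χ : G → ℂ} : (∀ g, (χ g).im = 0) ↔ (fun g => conj (χ g)) = χ := by
  simp only [funext_iff, Complex.conj_eq_iff_im]

theorem ro1_surj [Finite G] (a : G →* H) (ha : Function.Surjective a)
    (h : ∀ χ, IsIrrCharacter G χ → RO χ → a.ker ≤ charKer χ) : ro1 H = ro1 G :=
  (bij_congr (bij_inflate a ha (P := RO) (R := RO) fun _ _ => (ro_comp_iff ha).symm)
    (fun _ _ => Iff.rfl) fun χ b => and_iff_left_of_imp (h χ b)).card_eq

theorem ro_congr {A B : Type*} [Group A] [Group B] (f : A →* G) (f' : B →* G)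
    (hf : Function.Injective f) (hf' : Function.Injective f') (e : f.range = f'.range)
    {j : K →* A} {j' : K →* B} (hj : ∀ k, f (j k) = f' (j' k)) (θ : K → ℂ) : ro j θ = ro j' θ := by
  let i : A ≃* B := ((MonoidHom.ofInjective hf).trans (MulEquiv.subgroupCongr e)).trans
    (MonoidHom.ofInjective hf').symm
  have : ∀ k, i (j k) = j' k := fun k => hf' (by
    simp [i, MonoidHom.apply_ofInjective_symm, MonoidHom.ofInjective_apply, hj])
  exact (bij_equiv i (P := fun χ => Ov j θ χ ∧ RO χ) (R := fun χ => Ov j' θ χ ∧ RO χ) fun β _ =>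
    and_congr (ov_congr fun k => by rw [this]) (ro_comp_iff (a := i.toMonoidHom) i.surjective)).card_eq

theorem RO.le_charKer [Finite G] {χ : G → ℂ} (h : RO χ) (hχ : IsIrrCharacter G χ) (N : Subgroup G)
    [N.Normal] (o : Odd (♯N)) : N ≤ charKer χ := by
  have := Fintype.ofFinite N
  have c := char_restrict (irr_isCharacter hχ) N
  choose m hm using fun η : IrrCharacter N => inner_char_eq_nat c (irr_isCharacter η.2)
  have h1 : charDegree χ = ∑ η, m η * charDegree (η : N → ℂ) := charDegree_of_eq (by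
    simpa [hm, BlockB.irr_charDegree_eq] using classFun_apply_eq_sum (char_isClassFunction c) 1)
  obtain ⟨η, h2, h3⟩ := BlockB.Ord.exists_real_odd (fun η => m η * charDegree (η : N → ℂ))
    (fun η => by
      refine congrArg₂ (· * ·) ?_ ?_
      · apply Nat.cast_injective (R := ℂ)
        rw [← hm, ← hm, inner_char_comm c (irr_isCharacter η.2), ← inner_conj_conj (fun x : N => χ x)]
        simp only [congrFun (real_iff.1 h.1)]
      · obtain ⟨d, -, hd⟩ := irr_one_eq_nat η.2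
        exact charDegree_congr (by simp [hd])) (h1 ▸ h.2)
  refine le_charKer_of_inner_ne_zero hχ N ?_
  rw [← irr_eq_one_of_real_of_odd o η.2 h2, hm]
  rintro e
  simp [Nat.cast_eq_zero.1 e] at h3

theorem ro_eq_ro1 [Finite G] (E : NormalEmb K G) (π : G →* Q) (hπ : Function.Surjective π)
    (hk : π.ker = E.ι.range) {lam : K →* ℂˣ} (δ : G →* ℂˣ) (r : ∀ g, (δ g : ℂ).im = 0)
    (e : ∀ k, δ (E.ι k) = lam k) : ro E.ι (fun k => lam k) = ro1 Q := by
  refine (bij_congr (bij_restrict (P' := RO) (Q' := RO) (bij_gallagher E π hπ hk (irr_linear lam)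
    (irr_isCharacter (irr_linear δ)) fun k => by rw [e]) ?_) (fun _ _ => Iff.rfl)
      fun _ _ => by simp).card_eq
  rintro _ β - - - - rfl
  rw [← ro_comp_iff hπ]
  refine and_congr (forall_congr' fun g => ?_) (by
    rw [charDegree_congr (ψ := fun g => β (π g)) (by simp)])
  have : (δ g : ℂ).re ≠ 0 := fun h => (δ g).ne_zero (Complex.ext h (r g))
  simp [r, this]

theorem ro_clifford [Finite G] (E : NormalEmb K G) {θ : K → ℂ} (hθ : IsIrrCharacter K θ)
    (r : ∀ g, (θ g).im = 0) {T : Subgroup G} (hT : E.inertia θ ≤ T) (h : ∀ n, E.ι n ∈ T)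
    (o : Odd T.index) : ro E.ι θ = ro (E.restrict T h).ι θ := by
  have := Fintype.ofFinite G
  have := Fintype.ofFinite T
  have := Finite.of_injective _ E.inj
  have := Fintype.ofFinite K
  have b := bij_clifford E (E.restrict T h) T.subtype T.subtype_injective (fun _ => rfl) hθ
    (by simpa using hT)
  refine (bij_restrict (P' := RO) (Q' := RO) b ?_).card_eq
  rintro _ ψ hχ hψ o1 o2 rfl
  refine and_congr ?_ ?_
  · rw [real_iff, real_iff, ← ind_conj]
    refine ⟨fun e => b.uniq _ _ _ hχ (irr_conj hψ) hψ o1 ?_ o2 e rfl, fun e => by rw [e]⟩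
    rw [ov_iff, ← real_iff.1 r, inner_conj_conj (fun n => ψ ((E.restrict T h).ι n)),
      inner_irr_ne_zero_comm]
    exact ov_iff.1 o2
  · rw [charDegree_of_mul (irr_isCharacter hψ) (ind_one _ T.subtype_injective ψ), T.range_subtype,
      Nat.odd_mul, and_iff_right o]

theorem exists_real_linear [Finite G] [Finite K] (j : K →* G) {lam : K →* ℂˣ} (l2 : lam ^ 2 = 1)
    {ψ : G → ℂ} (hψ : IsCharacter G ψ) (r : RO ψ) (h : ∀ k, ψ (j k) = lam k * ψ 1) :
    ∃ δ : G →* ℂˣ, (∀ g, (δ g : ℂ).im = 0) ∧ ∀ k, δ (j k) = lam k := by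
  refine ⟨detHom hψ, fun g => ?_, fun k => Units.ext ?_⟩
  · rw [← Complex.conj_eq_iff_im, coe_detHom, ← detChar_map hψ, real_iff.1 r.1]
  · obtain ⟨m, hm⟩ := r.2
    rw [coe_detHom, detChar_of_scalar hψ (BlockB.charDegree_eq hψ).symm (c := lam k) fun n => by
      rw [← map_pow, h, BlockB.charDegree_eq hψ]; simp, hm, pow_succ, pow_mul]
    have := congrArg Units.val (DFunLike.congr_fun l2 k)
    simp only [MonoidHom.pow_apply, Units.val_pow_eq_pow_val] at this
    simp [this]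

theorem map_norm_syl [Finite G] {p : ℕ} {S : Subgroup G} (hS : Syl p S ⊤) (π : G →* Q)
    (hπ : Function.Surjective π) : (𝐍 S).map π = 𝐍 (S.map π) := by
  refine le_antisymm (map_norm le_rfl π) fun y hy => ?_
  obtain ⟨x, rfl⟩ := hπ y
  have : x ∈ 𝐍 (S ⊔ π.ker) := by
    rw [← comap_map_eq, ← comap_normalizer_eq_of_surjective _ hπ]; exact hy
  obtain ⟨a, ha, b, hb, rfl⟩ := (hS.of_le le_sup_left le_top).syl_frattini (normalIn_norm _) this
  obtain ⟨s, hs, k, hk, rfl⟩ := (mem_sup_norm (le_top.trans (normalIn_top.2 inferInstance).norm)).1 ha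
  exact ⟨s * b, mul_mem (le_norm_self S hs) hb.2, by simp [show π k = 1 from hk]⟩

theorem exists_norm_hom [Finite G] {p : ℕ} {S : Subgroup G} (hS : Syl p S ⊤) (π : G →* Q)
    (hπ : Function.Surjective π) : ∃ ρ : 𝐍 S →* 𝐍 (S.map π), Function.Surjective ρ ∧
      ρ.ker = π.ker.subgroupOf (𝐍 S) :=
  ⟨(π.comp (Subgroup.subtype _)).codRestrict _ fun x => map_norm le_rfl π ⟨x, x.2, rfl⟩,
    fun ⟨y, hy⟩ => by
      obtain ⟨x, hx, rfl⟩ := (map_norm_syl hS π hπ).ge hy
      exact ⟨⟨x, hx⟩, rfl⟩, Subgroup.ext fun _ => Subtype.ext_iff⟩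

theorem syl_odd_index [Finite G] {S T : Subgroup G} (hS : Syl 2 S ⊤) (l : S ≤ T) : Odd T.index :=
  Nat.not_even_iff_odd.1 fun h =>
    (hS.idx_of_le l).not_dvd' Nat.prime_two rfl (by simpa using h.two_dvd)

theorem ro_eq_of_invariant [Finite G] (E : NormalEmb K G) {S : Subgroup G} (hS : Syl 2 S ⊤)
    (l : ∀ k, E.ι k ∈ 𝐍 S) {lam : K →* ℂˣ} (l2 : lam ^ 2 = 1) (hi : E.Invariant fun k => lam k)
    (ih : ro1 (G ⧸ E.ι.range) = ro1 (𝐍 (S.map (QuotientGroup.mk' E.ι.range)))) :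
    ro E.ι (fun k => lam k) = ro (E.restrict _ l).ι fun k => lam k := by
  have := Finite.of_injective _ E.inj
  have := Fintype.ofFinite G
  have := Fintype.ofFinite (𝐍 S)
  have sc : ∀ {X : Type _} [Group X] [Finite X] (F : NormalEmb K X), (F.Invariant fun k => lam k) →
      ∀ χ, IsIrrCharacter X χ → Ov F.ι (fun k => lam k) χ → ∀ k, χ (F.ι k) = lam k * χ 1 :=
    fun F i χ a o k => by
      obtain ⟨e, -, he⟩ := o.res_eq a (irr_linear lam) i
      have := congrFun he 1
      simp only [map_one, Pi.smul_apply, Units.val_one, smul_eq_mul, mul_one] at this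
      simpa [this, mul_comm] using congrFun he k
  by_cases h : ∃ δ : G →* ℂˣ, (∀ g, (δ g : ℂ).im = 0) ∧ ∀ k, δ (E.ι k) = lam k
  · obtain ⟨δ, r, e⟩ := h
    obtain ⟨ρ, h1, h2⟩ := exists_norm_hom hS _ (QuotientGroup.mk'_surjective E.ι.range)
    rw [ro_eq_ro1 E _ (QuotientGroup.mk'_surjective _) (QuotientGroup.ker_mk' _) δ r e, ih,
      ro_eq_ro1 (E.restrict _ l) ρ h1 ?_ (δ.comp (Subgroup.subtype _)) (fun _ => r _) e]
    rw [h2, QuotientGroup.ker_mk']
    ext x
    exact ⟨fun ⟨n, hn⟩ => ⟨n, Subtype.ext hn⟩, fun ⟨n, hn⟩ => ⟨n, congrArg Subtype.val hn⟩⟩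
  · have : IsEmpty {χ : IrrCharacter G // Ov E.ι (fun k => lam k) χ ∧ RO (χ : G → ℂ)} :=
      ⟨fun ⟨χ, a, b⟩ => h (exists_real_linear E.ι l2 (irr_isCharacter χ.2) b (sc E hi χ χ.2 a))⟩
    have : IsEmpty {χ : IrrCharacter (𝐍 S) // Ov (E.restrict _ l).ι (fun k => lam k) χ ∧
        RO (χ : 𝐍 S → ℂ)} := ⟨fun ⟨χ, a, b⟩ => by
      obtain ⟨δ, r, e⟩ := exists_real_linear _ l2 (irr_isCharacter χ.2) b
        (sc (E.restrict _ l) (fun g => hi g) χ χ.2 a)
      have c := irr_isCharacter (irr_linear δ)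
      have d := ind_one _ (𝐍 S).subtype_injective fun g => (δ g : ℂ)
      refine h (exists_real_linear E.ι l2 (ind_isCharacter (𝐍 S).subtype c) ⟨?_, ?_⟩ fun k => ?_)
      · rw [real_iff, ← ind_conj, real_iff.1 r]
      · rw [charDegree_of_eq (n := (𝐍 S).index) (by simpa using d)]
        exact syl_odd_index hS (le_norm_self S)
      · rw [E.ind_apply_ι_of_invariant _ (𝐍 S).subtype_injective (E.restrict _ l).ι (fun _ => rfl)
          (fun k => by rw [e]) hi, d]
        simp [mul_comm]⟩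
    simp [ro]

theorem ro1_eq_norm (n : ℕ) : ∀ (G : Type u) [Group G] [Finite G] [Group.IsSolvable G],
    Nat.card G = n → ∀ S : Subgroup G, Syl 2 S ⊤ → ro1 G = ro1 (𝐍 S) := by
  induction n using Nat.strong_induction_on with | h n ih =>
  rintro G _ _ _ rfl S hS
  rcases subsingleton_or_nontrivial G with h | h
  · exact ro1_surj (𝐍 S).subtype (fun g => ⟨1, Subsingleton.elim _ _⟩) (by simp)
  obtain ⟨K, q, hq, ⟨nK, k1, -⟩, -, ⟨k2, k3⟩, k4⟩ :=
    CF.Solv.exists_isMinNormal_pGroup_le (⊤ : Subgroup G) top_ne_bot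
  have qt : ∀ (X : Type u) [Group X] [Finite X] [Group.IsSolvable X] (E : NormalEmb K X),
      Nat.card X ≤ Nat.card G → ∀ S : Subgroup X, Syl 2 S ⊤ →
      ro1 (X ⧸ E.ι.range) = ro1 (𝐍 (S.map (QuotientGroup.mk' E.ι.range))) :=
    fun X _ _ _ E l S hS => ih _ (lt_of_lt_of_le (by
      rw [← E.card_mul_index]
      exact lt_mul_of_one_lt_left E.index_pos (one_lt_card.2 k1)) l) _ rfl _
      (map_top_of_surjective _ (QuotientGroup.mk'_surjective E.ι.range) ▸ hS.map _)
  let E := NormalEmb.sub K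
  by_cases h2 : q = 2
  swap
  · have o : Odd (♯E.ι.range) := by
      rw [E.card_range]
      exact Nat.not_even_iff_odd.1 fun h => h2 ((piGrp_of_isPGroup hq k4) 2 Nat.prime_two
        h.two_dvd).symm
    obtain ⟨ρ, h1, h2⟩ := exists_norm_hom hS _ (QuotientGroup.mk'_surjective E.ι.range)
    rw [← ro1_surj _ (QuotientGroup.mk'_surjective E.ι.range) fun χ a b => by
      rw [QuotientGroup.ker_mk']; exact b.le_charKer a _ o, qt G E le_rfl S hS]
    refine ro1_surj ρ h1 fun χ a b => b.le_charKer a _ (o.of_dvd_nat ?_)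
    rw [h2, QuotientGroup.ker_mk']
    exact card_comap_dvd_of_injective _ _ (subtype_injective _)
  subst h2
  have := Fact.mk hq
  have l : K ≤ 𝐍 S := (hS.le_of_normal (normalIn_top.2 nK) (piGrp_of_isPGroup hq k4)).trans
    (le_norm_self S)
  let E' := E.restrict (𝐍 S) fun k => l k.2
  have od : ∀ {d : ℕ}, Odd d → ¬ 2 ∣ d := fun h => h.not_two_dvd_nat
  refine card_eq_of_rel (Θ := {τ : K → ℂ // IsIrrCharacter K τ ∧ S ≤ E.inertia τ})
    (fun a t => Ov E.ι t.1 a.1) (fun a t => Ov E'.ι t.1 a.1)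
    (fun t t' => ∃ n : 𝐍 S, E.cj t.1 n = t'.1) ?_ ?_ ?_ ?_ ?_
  · rintro ⟨χ, h1⟩
    obtain ⟨τ, a, b, c⟩ := exists_inv_under_syl E E (MonoidHom.id G) (fun _ => rfl) hS.pi
      (fun s _ => ⟨s, rfl⟩) χ.2 (od h1.2)
    exact ⟨⟨τ, a, c⟩, b⟩
  · rintro ⟨χ, h1⟩
    obtain ⟨τ, a, b, c⟩ := exists_inv_under_syl E E' (𝐍 S).subtype (fun _ => rfl) hS.pi
      (by simpa using le_norm_self S) χ.2 (od h1.2)
    exact ⟨⟨τ, a, c⟩, b⟩
  · rintro ⟨χ, _⟩ ⟨t, a, b⟩ o ⟨t', a', b'⟩
    refine ⟨fun o' => ?_, fun ⟨n, e⟩ => (e ▸ (ov_cj E (irr_isClassFunction χ.2) n).2 o :)⟩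
    obtain ⟨g, rfl⟩ := o.exists_cj o' χ.2 a a'
    obtain ⟨n, hn, e⟩ := exists_cj_norm E hS b b'
    exact ⟨⟨n, hn⟩, e⟩
  · rintro ⟨χ, _⟩ ⟨t, a, b⟩ o ⟨t', a', b'⟩
    exact ⟨fun o' => o.exists_cj o' χ.2 a a',
      fun ⟨n, e⟩ => (e ▸ (ov_cj E' (irr_isClassFunction χ.2) n).2 o :)⟩
  rintro ⟨t, a, b⟩
  have fib : ∀ {X : Type u} [Group X] (j : K →* X), Nat.card
      {a : {χ : IrrCharacter X // RO (χ : X → ℂ)} // Ov j t a.1} = ro j t := fun {X} _ j =>
    Nat.card_congr ((Equiv.subtypeSubtypeEquivSubtypeInter _ fun χ : IrrCharacter X =>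
      Ov j t χ).trans (Equiv.subtypeEquivRight fun _ => and_comm))
  refine (fib _).trans (Eq.trans ?_ (fib _).symm)
  obtain ⟨lam, rfl⟩ := exists_linear_of_one (irr_isCharacter a)
    (irr_one_eq_one_of_comm (fun x y => k2.1.1 x y) a)
  have l2 : lam ^ 2 = 1 := by
    ext k
    rw [MonoidHom.pow_apply, ← map_pow, show k ^ 2 = 1 from Subtype.ext (k3 k k.2)]
    simp
  have r : ∀ k, (lam k : ℂ).im = 0 := fun k => by
    have := congrArg Units.val (DFunLike.congr_fun l2 k)
    simp only [MonoidHom.pow_apply, Units.val_pow_eq_pow_val, MonoidHom.one_apply, Units.val_one,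
      sq_eq_one_iff] at this
    rcases this with h | h <;> simp [h]
  obtain ⟨T, hT⟩ : ∃ T, T = E.inertia fun k => lam k := ⟨_, rfl⟩
  have hK : ∀ k, E.ι k ∈ T := fun k => hT ▸ E.ι_mem_inertia (irr_isClassFunction a) k
  have b' : S ≤ T := hT ▸ b
  have s1 : Syl 2 (S.subgroupOf T) ⊤ := by simpa using hall_subgroupOf (hS.of_le b' le_top) le_rfl
  have s2 : Syl 2 (S.subgroupOf (𝐍 S)) ⊤ := by
    simpa using hall_subgroupOf (hS.of_le (le_norm_self S) le_top) le_rfl
  have e1 : 𝐍 (S.subgroupOf T) = (𝐍 S).subgroupOf T := (subgroupOf_normalizer_eq b').symm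
  rw [ro_clifford E a r hT.ge hK (syl_odd_index hS b'), ro_clifford E' a r (T := T.subgroupOf (𝐍 S))
    (hT ▸ (E.inertia_comap E' (𝐍 S).subtype (fun _ => rfl) _).le) hK
    (syl_odd_index s2 (comap_mono b')), ro_eq_of_invariant (E.restrict T hK) s1
    (fun k => e1.ge (l k.2)) l2 (fun g k => E.mem_inertia'.1 (hT.le g.2) k)
    (qt T _ (card_le_card_group T) _ s1)]
  refine ro_congr (T.subtype.comp (Subgroup.subtype _)) ((𝐍 S).subtype.comp (Subgroup.subtype _))
    (T.subtype_injective.comp (subtype_injective _))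
    ((𝐍 S).subtype_injective.comp (subtype_injective _)) ?_ (fun _ => rfl) _
  rw [MonoidHom.range_comp, MonoidHom.range_comp, range_subtype, range_subtype, e1,
    subgroupOf_map_subtype, subgroupOf_map_subtype, inf_comm]

theorem card_odd_eq_norm {G : Type u} [Group G] [Finite G] {p : ℕ} [Fact p.Prime]
    (hG : IsPSolvable p G) {S : Subgroup G} (hS : Syl p S ⊤) :
    Nat.card {χ : IrrCharacter G // ¬ p ∣ charDegree (χ : G → ℂ)} =
      Nat.card {χ : IrrCharacter (𝐍 S) // ¬ p ∣ charDegree (χ : 𝐍 S → ℂ)} := by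
  have o : ∀ {X : Type u} [Group X] (j : (⊥ : Subgroup G) →* X), cnt p j (fun _ => 1) =
      Nat.card {χ : IrrCharacter X // ¬ p ∣ charDegree (χ : X → ℂ)} := fun j =>
    Nat.card_congr (Equiv.subtypeEquivRight fun χ => and_iff_left (by
      simp [Ov, finsum_unique, Subsingleton.elim (default : (⊥ : Subgroup G)) 1,
        irr_one_ne_zero χ.2]))
  have := relMcKay (p := p) _ G _ (NormalEmb.sub ⊥) rfl hG S hS (fun _ => 1) irr_one
    fun s _ => rfl
  rwa [NormalEmb.sub_ι, range_subtype, bot_sup_eq, cs_eq_cnt p fun l : (⊥ : Subgroup G) =>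
    bot_le (a := 𝐍 S) l.2, o, o] at this

theorem forall_real_iff [Finite G] : (∀ χ : IrrCharacter G, Odd (charDegree (χ : G → ℂ)) →
    ∀ g, ((χ : G → ℂ) g).im = 0) ↔
      ro1 G = Nat.card {χ : IrrCharacter G // ¬ 2 ∣ charDegree (χ : G → ℂ)} := by
  simp only [← even_iff_two_dvd, Nat.not_even_iff_odd]
  refine ⟨fun h => Nat.card_congr (Equiv.subtypeEquivRight fun χ => and_iff_right_of_imp (h χ)),
    fun h χ o => ?_⟩
  have := Set.eq_of_subset_of_ncard_le (s := {χ : IrrCharacter G | RO (χ : G → ℂ)})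
    (t := {χ : IrrCharacter G | Odd (charDegree (χ : G → ℂ))}) (fun _ h => h.2) h.ge
  exact (this.ge o).1

theorem forall_real_norm_iff [Finite G] {S : Subgroup G} (hS : Syl 2 S ⊤) :
    (∀ χ : IrrCharacter (𝐍 S), Odd (charDegree (χ : 𝐍 S → ℂ)) → ∀ g, ((χ : 𝐍 S → ℂ) g).im = 0) ↔
      _root_.commutator S = frattini S ∧ 𝐍 S = S := by
  have hp := hS.pi.isPGroup
  refine ⟨fun h => ?_, fun ⟨h1, h2⟩ χ o g => ?_⟩
  · have e : 𝐍 S = S := le_antisymm (fun g hg => by
      by_contra hg'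
      have oi : Odd (S.subgroupOf (𝐍 S)).index := syl_odd_index (by
        simpa using hall_subgroupOf (hS.of_le (le_norm_self S) le_top) le_rfl) le_rfl
      obtain ⟨χ, a, b, c⟩ := exists_irr_le_charKer_not_mem (S.subgroupOf (𝐍 S)) (g := ⟨g, hg⟩) hg'
      have := h ⟨χ, a⟩ (oi.of_dvd_nat (irr_one_dvd_index_of_le_charCenter a
        (BlockB.charDegree_eq (irr_isCharacter a)).symm (b.trans (charKer_le_charCenter χ))))
      obtain rfl := BlockB.Ord.irr_eq_one_of_real_of_odd_index _ oi a b this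
      exact c fun _ => rfl) (le_norm_self S)
    refine ⟨le_antisymm (CF.Solv.commutator_le_frattini_of_isPGroup hp)
      (CF.Solv.frattini_le_of_commutator_le_of_pow_mem (p := 2) le_rfl fun x => ?_), e⟩
    by_contra hx
    obtain ⟨χ, a, b, c⟩ := exists_irr_le_charKer_not_mem _ hx
    obtain ⟨lam, rfl⟩ := exists_linear_of_one (irr_isCharacter a) ((irr_one_eq_one_iff a).2 b)
    have := h ⟨_, irr_linear (lam.comp (inclusion e.le))⟩ (by
      rw [charDegree_of_eq (n := 1) (by simp)]; exact odd_one) ⟨x, le_norm_self S x.2⟩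
    refine c ((mem_charKer_iff (irr_isCharacter a)).2 ?_)
    have k := linear_conj lam x
    rw [Complex.conj_eq_iff_im.2 (show (lam x : ℂ).im = 0 from this)] at k
    simp only [map_mul, Units.val_mul, map_one, Units.val_one, sq]
    exact (mul_eq_one_iff_eq_inv₀ (lam x).ne_zero).2 k
  · have d : charDegree (χ : 𝐍 S → ℂ) = 1 := PiNat.eq_one (π := {2})
      (PiNat.dvd (h2.symm ▸ hS.pi) (charDegree_dvd_card χ.2))
      ((piNat_compl_single Nat.prime_two).2 o.not_two_dvd_nat)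
    obtain ⟨lam, e⟩ := exists_linear_of_one (irr_isCharacter χ.2) (by
      rw [← BlockB.irr_charDegree_eq, d, Nat.cast_one])
    have := Abelianization.commutator_subset_ker (lam.comp (inclusion h2.ge))
      (h1.ge (CF.Solv.pow_mem_frattini hp ⟨g, h2.le g.2⟩))
    have k : (lam g : ℂ) ^ 2 = 1 := by
      rw [← Units.val_pow_eq_pow_val, ← map_pow]; exact congrArg Units.val this
    rw [e]
    rcases sq_eq_one_iff.1 k with h | h <;> simp [h]

end CF.Char
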