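/-
The group `3³:S₄`: data and arithmetic.
-/
import Cfsg.Agent.Char.PMod2

namespace CF.Char.T3
open CF.Char.Emb CF.Char.PMod

def C3702 : List CF.Perm.SS.Lvl := [
  ⟨0, [[1, 2, 0, 3, 4, 5, 6, 7, 8], [3, 4, 5, 6, 7, 8, 0, 1, 2], [1, 0, 2, 4, 3, 5, 6, 7, 8], [3, 4, 5, 0, 1, 2, 7, 6, 8]],
    [(0, [], [0, 1, 2, 3, 4, 5, 6, 7, 8]),
     (2, [0], [1, 2, 0, 3, 4, 5, 6, 7, 8]),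
     (6, [1], [3, 4, 5, 6, 7, 8, 0, 1, 2]),
     (1, [2], [1, 0, 2, 4, 3, 5, 6, 7, 8]),
     (3, [3], [3, 4, 5, 0, 1, 2, 7, 6, 8]),
     (8, [0, 1], [3, 4, 5, 6, 7, 8, 1, 2, 0]),
     (5, [0, 3], [3, 4, 5, 1, 2, 0, 7, 6, 8]),
     (7, [1, 3], [6, 7, 8, 3, 4, 5, 1, 0, 2]),
     (4, [2, 3], [4, 3, 5, 1, 0, 2, 7, 6, 8])],
    [[2, 0], [3, 0, 1]]⟩,
  ⟨1, [[0, 2, 1, 4, 3, 5, 6, 7, 8], [0, 1, 2, 7, 6, 8, 4, 5, 3]],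
    [(1, [], [0, 1, 2, 3, 4, 5, 6, 7, 8]),
     (2, [0], [0, 2, 1, 4, 3, 5, 6, 7, 8])],
    [[1], [0, 1, 0]]⟩,
  ⟨3, [[0, 1, 2, 7, 6, 8, 4, 5, 3], [0, 1, 2, 6, 7, 8, 3, 5, 4]],
    [(3, [], [0, 1, 2, 3, 4, 5, 6, 7, 8]),
     (8, [0], [0, 1, 2, 7, 6, 8, 4, 5, 3]),
     (6, [1], [0, 1, 2, 6, 7, 8, 3, 5, 4]),
     (5, [0, 0], [0, 1, 2, 5, 4, 3, 6, 8, 7]),
     (4, [1, 0], [0, 1, 2, 5, 3, 4, 7, 8, 6]),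
     (7, [0, 0, 0], [0, 1, 2, 8, 6, 7, 4, 3, 5])],
    [[1, 1], [1, 0, 0, 1]]⟩,
  ⟨4, [[0, 1, 2, 3, 5, 4, 6, 8, 7], [0, 1, 2, 3, 4, 5, 8, 6, 7]],
    [(4, [], [0, 1, 2, 3, 4, 5, 6, 7, 8]),
     (5, [0], [0, 1, 2, 3, 5, 4, 6, 8, 7])],
    [[1]]⟩,
  ⟨6, [[0, 1, 2, 3, 4, 5, 8, 6, 7]],
    [(6, [], [0, 1, 2, 3, 4, 5, 6, 7, 8]),
     (7, [0], [0, 1, 2, 3, 4, 5, 8, 6, 7]),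
     (8, [0, 0], [0, 1, 2, 3, 4, 5, 7, 8, 6])],
    []⟩]

def W3702 : List (ℤ × List (ℤ√3)) := [
  (12, [⟨1, 0⟩, ⟨0, 0⟩, ⟨0, 0⟩, ⟨-3, 0⟩, ⟨0, 0⟩, ⟨0, 0⟩, ⟨-4, 0⟩, ⟨3, 0⟩, ⟨3, 0⟩]),
  (12, [⟨1, 0⟩, ⟨0, 0⟩, ⟨0, 0⟩, ⟨-3, 0⟩, ⟨0, 0⟩, ⟨0, 0⟩, ⟨-4, 0⟩, ⟨-3, 0⟩, ⟨-3, 0⟩]),
  (6, [⟨0, 0⟩, ⟨-1, 0⟩, ⟨0, 0⟩, ⟨0, 0⟩, ⟨3, 0⟩, ⟨0, 0⟩, ⟨-2, 0⟩, ⟨0, 0⟩, ⟨0, 0⟩]),
  (6, [⟨0, 0⟩, ⟨-1, 0⟩, ⟨0, 0⟩, ⟨0, 0⟩, ⟨-3, 0⟩, ⟨0, 0⟩, ⟨-2, 0⟩, ⟨0, 0⟩, ⟨0, 0⟩]),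
  (12, [⟨-1, 0⟩, ⟨0, 0⟩, ⟨0, 0⟩, ⟨-3, 0⟩, ⟨0, 0⟩, ⟨-4, 0⟩, ⟨-4, 0⟩, ⟨0, 1⟩, ⟨0, -1⟩]),
  (12, [⟨-1, 0⟩, ⟨0, 0⟩, ⟨0, 0⟩, ⟨-3, 0⟩, ⟨0, 0⟩, ⟨0, 0⟩, ⟨4, 0⟩, ⟨0, 1⟩, ⟨0, -1⟩]),
  (36, [⟨-1, 0⟩, ⟨-4, 0⟩, ⟨-4, 0⟩, ⟨9, 0⟩, ⟨0, 0⟩, ⟨0, 0⟩, ⟨0, 0⟩, ⟨0, -3⟩, ⟨0, 3⟩]),
  (3, [⟨0, 0⟩, ⟨0, 0⟩, ⟨0, 0⟩, ⟨0, 0⟩, ⟨0, 0⟩, ⟨-1, 0⟩, ⟨1, 0⟩, ⟨0, 0⟩, ⟨0, 0⟩]),
  (6, [⟨0, 0⟩, ⟨0, 0⟩, ⟨0, 0⟩, ⟨0, 0⟩, ⟨0, 0⟩, ⟨0, 0⟩, ⟨0, 0⟩, ⟨0, -1⟩, ⟨0, 1⟩])]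

def D3702 : Emb.Cert := [([1, 1, 1, 1, -1, -1, -1, 0], 4, [[[-1, -1, -1, -1, 0, 1, 0, 1, 0], [-1, 0, 0, 0, -1,
    -1, 1, 0, 1], [-1, 0, 0, 0, 0, 1, 0, 0, 0], [0, -1, 0, 1, 0, 0, 1, 0, 0], [0, 0, 0, 0, 0, 0, 0, 1, 0], [0,
    0, 0, 0, 1, 0, 0, 0, 0], [0, 0, 0, 1, 0, 0, 0, 0, 0], [0, 0, 1, 0, 0, 0, 0, 0, 0], [0, 0, 1, 0, 0, 0, 1,
    0, 0], [0, 0, 1, 0, 1, 0, 0, 0, 0], [0, 1, 0, 0, 0, 0, 0, 0, 0], [1, 0, 0, 0, 0, 0, 0, 0, 1]], [[-1, -1,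
    -1, -1, 0, 1, 0, 1, 0], [-1, 0, 1, 0, 0, 0, 1, 0, 0], [0, -1, 0, 1, 0, 0, 1, 0, 0], [0, 0, 0, 0, -1, -1,
    1, 0, 1], [0, 0, 0, 0, 0, 0, 0, 0, 1], [0, 0, 0, 0, 0, 0, 0, 1, 0], [0, 0, 0, 0, 0, 1, 0, 0, 0], [0, 0, 0,
    0, 1, 0, 0, 0, 0], [0, 0, 0, 1, 0, 0, 0, 0, 0], [0, 0, 1, 0, 0, 0, 0, 0, 0], [0, 1, 0, 0, 0, 0, 0, 0, 0],
    [1, 0, 0, 0, 0, 0, 0, 0, 0], [1, 0, 1, 0, 1, 0, 0, 0, 0]], [[-1, -1, -1, -1, 0, 1, 0, 1, 0], [-1, 0, 1, 0,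
    0, 0, 1, 0, 0], [0, -1, 0, 1, 0, 0, 1, 0, 0], [0, 0, 0, 0, -1, -1, 1, 0, 1], [0, 0, 0, 0, 0, 0, 0, 0, 1],
    [0, 0, 0, 0, 0, 0, 0, 1, 0], [0, 0, 0, 0, 0, 1, 0, 0, 0], [0, 0, 0, 1, 0, 0, 0, 0, 0], [0, 0, 1, 0, 1, 0,
    0, 0, 0], [0, 1, 0, 0, 0, 0, 0, 0, 0], [1, 0, 0, 0, 1, 0, 0, 0, 0], [1, 0, 1, 0, 0, 0, 0, 0, 0]], [[-1,
    -1, -1, 0, 0, 1, 0, 1, 0], [-1, 0, 0, -1, 0, 1, 0, 0, 0], [-1, 0, 0, 0, -1, -1, 1, 0, 1], [0, -1, 0, 0, 0,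
    0, 1, 0, 0], [0, 0, 0, -1, 0, 0, 0, 1, 0], [0, 0, 0, 0, 1, 0, 0, 0, 0], [0, 0, 1, 0, 0, 0, 0, 0, 0], [0,
    0, 1, 0, 1, 0, 0, 0, 0], [0, 0, 1, 1, 0, 0, 1, 0, 0], [0, 1, 0, 0, 0, 0, 0, 0, 0], [1, 0, 0, 0, 0, 0, 0,
    0, 1]]]),
  ([1, 0, 0, -1, -1, -1, 0], 3, [[[-1, -1, -1, 0, 1, 0, 1, 0], [-1, 0, 1, 0, 0, 1, 0, 0], [0, 0, 0, -1, -1, 1,
    0, 1], [0, 0, 0, 0, 0, 0, 0, 1], [0, 0, 0, 0, 0, 0, 1, 0], [0, 0, 0, 0, 1, 0, 0, 0], [0, 0, 0, 1, 0, 0, 0,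
    0], [0, 0, 1, 0, 0, 0, 0, 0], [0, 1, 0, 0, 0, 0, 0, 0], [0, 1, 0, 0, 0, 1, 0, 0], [0, 1, 0, 1, 0, 0, 0,
    0], [1, 0, 0, 0, 0, 0, 0, 0]], [[-1, -1, 0, 0, 0, 0, 1, 0], [-1, 0, 0, -1, 0, 1, 0, 0], [-1, 0, 0, 1, 1,
    0, 0, 0], [0, -1, 0, -1, 0, 0, 0, 1], [0, 0, -1, 0, 1, 0, 1, 0], [0, 0, 1, 0, 0, 1, 0, 0], [0, 1, 0, 0,
    -1, 1, 0, 1], [0, 1, 1, 0, 0, 0, 0, 0]], [[-1, -1, 0, 0, 1, 0, 1, 0], [-1, 0, 0, 0, 0, 1, 0, 0], [0, 0,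
    -1, 0, 0, 0, 1, 0], [0, 0, -1, 0, 1, 0, 0, 0], [0, 0, 0, -1, -1, 1, 0, 1], [0, 0, 0, 0, 0, 0, 0, 1], [0,
    0, 0, 1, 0, 0, 0, 0], [0, 1, 0, 0, 0, 0, 0, 0], [0, 1, 0, 1, 0, 0, 0, 0], [0, 1, 1, 0, 0, 1, 0, 0], [1, 0,
    0, 0, 0, 0, 0, 0]], [[-1, 0, 0, 0, 0, 1, 1, 0], [-1, 0, 0, 1, 1, 0, 0, 0], [0, -1, -1, 0, 1, -1, 1, 0],
    [0, -1, 1, 0, 0, 0, 0, 0], [0, 0, 0, -1, 0, 1, 0, 1], [0, 0, 0, 0, -1, 0, 0, 1], [0, 1, 1, 0, 0, 0, 0, 0],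
    [1, 1, 0, 1, 0, 0, 0, 0]], [[-1, 0, 0, 0, 0, 1, 1, 0], [-1, 0, 0, 1, 1, 0, 0, 0], [0, -1, -1, 0, 1, -1, 1,
    0], [0, 0, 0, -1, 0, 1, 0, 1], [0, 0, 0, 0, -1, 0, 0, 1], [0, 0, 1, 0, 0, 0, 0, 0], [0, 0, 1, 0, 0, 0, 0,
    0], [0, 1, 0, 0, 0, 0, 0, 0], [0, 1, 0, 0, 0, 0, 0, 0], [1, 1, 0, 1, 0, 0, 0, 0]]]),
  ([1, 1, -1, 1, -1, 0], 4, [[[-1, -1, 0, 0, 0, 1, 0], [-1, 1, 0, 0, 0, 0, 0], [0, 0, -1, -1, 0, 0, 1], [0, 0,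
    -1, 0, 1, 0, 0], [0, 0, 0, 0, 1, 0, 1], [0, 0, 0, 1, 0, 1, 0], [1, 0, 1, 0, 0, 0, 0], [1, 1, 0, -1, 1, 0,
    0]], [[-1, -1, 0, 1, -1, 1, 0], [-1, 1, 0, 0, 0, 0, 0], [0, 0, -1, 0, 1, 0, 1], [0, 0, 0, -1, 0, 0, 1],
    [0, 0, 0, 0, 1, 1, 0], [0, 0, 1, 1, 0, 0, 0], [1, 0, 1, 0, 0, 0, 0], [1, 1, 0, 0, 0, 0, 0]], [[-1, -1, 0,
    1, -1, 1, 0], [0, 0, -1, 0, 1, 0, 1], [0, 0, 0, -1, 0, 0, 1], [0, 0, 0, 0, 1, 1, 0], [0, 0, 1, 1, 0, 0,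
    0], [0, 1, 0, 0, 0, 0, 0], [0, 1, 0, 0, 0, 0, 0], [1, 0, 0, 0, 0, 0, 0], [1, 0, 0, 0, 0, 0, 0], [1, 0, 1,
    0, 0, 0, 0]], [[-1, -1, 0, 1, 0, 1, 0], [-1, 1, 0, 0, 0, 0, 0], [0, 0, -1, -1, 1, 0, 1], [0, 0, 0, 0, 0,
    0, 1], [0, 0, 0, 0, 0, 1, 0], [0, 0, 0, 0, 1, 0, 0], [0, 0, 0, 1, 0, 0, 0], [0, 0, 1, 0, 0, 0, 0], [1, 0,
    1, 0, 0, 0, 0], [1, 1, 0, 0, 1, 0, 0]], [[-1, -1, 0, 1, 0, 1, 0], [0, 0, -1, -1, 1, 0, 1], [0, 0, 0, 0, 0,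
    0, 1], [0, 0, 0, 0, 0, 1, 0], [0, 0, 0, 1, 0, 0, 0], [0, 0, 1, 0, 0, 0, 0], [0, 1, 0, 0, 0, 0, 0], [0, 1,
    0, 0, 1, 0, 0], [1, 0, 0, 0, 0, 0, 0], [1, 0, 0, 0, 1, 0, 0], [1, 0, 1, 0, 0, 0, 0]], [[-1, 0, -1, 0, 0,
    0, 1], [-1, 0, 0, 0, 0, 1, 0], [0, -1, 0, 1, 0, 1, 0], [0, 0, -1, 0, 1, 0, 0], [0, 0, 1, 1, 0, 0, 0], [0,
    1, 0, 0, 1, 0, 0], [1, 0, 0, -1, 1, 0, 1], [1, 1, 0, 0, 0, 0, 0]], [[-1, 0, 0, 0, 0, 1, 0], [-1, 0, 0, 1,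
    0, 0, 0], [0, -1, 0, 1, 0, 1, 0], [0, 0, -1, -1, 1, 0, 1], [0, 0, 0, 0, 0, 0, 1], [0, 0, 0, 0, 1, 0, 0],
    [0, 0, 1, 0, 0, 0, 0], [0, 1, 0, 0, 0, 0, 0], [1, 0, 1, 0, 0, 0, 0], [1, 1, 0, 0, 1, 0, 0]], [[-1, 0, 0,
    0, 0, 1, 0], [0, -1, 0, 1, 0, 1, 0], [0, 0, -1, -1, 0, 0, 1], [0, 0, 0, 0, 1, 0, 1], [0, 1, -1, 0, 1, 0,
    0], [1, 0, 0, -1, 1, 0, 0], [1, 0, 0, 0, 0, 0, 0], [1, 1, 1, 0, 0, 0, 0]], [[-1, 0, 0, 1, 0, 1, 0], [0,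
    -1, 0, 0, 0, 1, 0], [0, -1, 0, 1, 0, 0, 0], [0, 0, -1, -1, 1, 0, 1], [0, 0, 0, 0, 0, 0, 1], [0, 0, 0, 0,
    1, 0, 0], [0, 0, 1, 0, 0, 0, 0], [1, 0, 0, 0, 0, 0, 0], [1, 0, 1, 0, 0, 0, 0], [1, 1, 0, 0, 1, 0, 0]]]),
  ([0, -1, 1, -1, 0], 3, [[[-1, 0, 0, 0, 1, 0], [-1, 0, 1, 0, 0, 0], [0, -1, -1, 1, 0, 1], [0, 0, 0, 0, 0, 1],
    [0, 0, 0, 1, 0, 0], [0, 0, 1, 0, 1, 0], [0, 1, 0, 0, 0, 0], [0, 1, 0, 0, 0, 0], [1, 0, 0, 1, 0, 0]], [[-1,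
    0, 0, 0, 1, 0], [0, -1, -1, 0, 0, 1], [0, -1, 0, 1, 0, 0], [0, 0, 0, 1, 0, 1], [0, 0, 1, 0, 1, 0], [0, 1,
    0, 0, 0, 0], [1, 0, -1, 1, 0, 0], [1, 0, 0, 0, 0, 0]], [[-1, 0, 1, -1, 1, 0], [0, -1, 0, 1, 0, 1], [0, 0,
    -1, 0, 0, 1], [0, 0, 0, 1, 1, 0], [0, 1, 0, 0, 0, 0], [0, 1, 1, 0, 0, 0], [1, 0, 0, 0, 0, 0], [1, 0, 0, 0,
    0, 0]], [[-1, 0, 1, 0, 1, 0], [0, -1, -1, 0, 0, 1], [0, 0, -1, 1, 0, 0], [0, 0, 0, 0, 1, 0], [0, 0, 0, 1,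
    0, 1], [1, -1, 0, 1, 0, 0], [1, 1, 0, 0, 0, 0]], [[-1, 0, 1, 0, 1, 0], [0, -1, -1, 1, 0, 1], [0, 0, 0, 0,
    0, 1], [0, 0, 0, 0, 1, 0], [0, 0, 0, 1, 0, 0], [0, 0, 1, 0, 0, 0], [0, 1, 0, 0, 0, 0], [0, 1, 0, 0, 0, 0],
    [1, 0, 0, 0, 0, 0], [1, 0, 0, 1, 0, 0]], [[-1, 0, 1, 0, 1, 0], [0, -1, 0, 0, 0, 1], [0, -1, 0, 1, 0, 0],
    [0, 0, -1, 1, 0, 1], [0, 0, 0, 0, 1, 0], [0, 1, 1, 0, 0, 0], [1, 0, 0, 0, 0, 0], [1, 0, 0, 1, 0, 0]]]),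
  ([1, -1, 0, -1], 3, [[[-1, -1, 0, 0, 1], [-1, 0, 1, 0, 0], [0, -1, 1, 0, 0], [0, 0, 0, 1, 0], [0, 0, 1, 0,
    1], [0, 1, 0, 1, 0], [1, 0, 0, 0, 0]], [[-1, -1, 1, 0, 0], [-1, 0, 1, 0, 1], [0, -1, 0, 0, 1], [0, 0, 0,
    1, 0], [0, 1, 0, 1, 0], [1, 0, 1, 0, 0]], [[-1, -1, 1, 0, 1], [-1, 0, 1, 0, 0], [0, 0, 0, 0, 1], [0, 0, 0,
    1, 0], [0, 1, 0, 0, 0], [0, 1, 0, 1, 0], [1, 0, 1, 0, 0]], [[-1, -1, 1, 0, 1], [0, 0, 0, 0, 1], [0, 0, 0,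
    1, 0], [0, 0, 1, 0, 0], [0, 0, 1, 0, 0], [0, 1, 0, 0, 0], [0, 1, 0, 1, 0], [1, 0, 0, 0, 0], [1, 0, 0, 0,
    0]], [[-1, 0, 0, 0, 1], [-1, 0, 1, 0, 0], [0, -1, 1, 0, 1], [0, 0, 0, 1, 0], [0, 0, 1, 0, 0], [0, 1, 0, 1,
    0], [1, 1, 0, 0, 0]], [[-1, 0, 0, 1, 0], [-1, 0, 1, 0, 1], [0, -1, 0, 0, 1], [0, -1, 1, 0, 0], [0, 0, 1,
    0, 0], [1, 1, 0, 1, 0]], [[-1, 0, 1, 0, 1], [0, -1, 0, 0, 1], [0, 0, 1, 1, 0], [0, 1, -1, 1, 0], [1, 0, 0,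
    0, 0], [1, 1, 0, 0, 0]]]),
  ([-1, 1, -1], 3, [[[-1, 0, 0, 1], [-1, 1, 0, 0], [0, 0, 1, 0], [0, 1, 0, 0], [0, 1, 0, 1], [1, 0, 1, 0]],
    [[-1, 0, 0, 1], [0, 1, 0, 1], [0, 1, 1, 0], [1, -1, 1, 0], [1, 0, 0, 0]], [[-1, 1, 0, 1], [0, 0, 0, 1],
    [0, 0, 1, 0], [0, 1, 0, 0], [0, 1, 0, 0], [1, 0, 0, 0], [1, 0, 1, 0]]]),
  ([0, 1], 3, [[[-1, 1, 0], [0, 0, 1], [1, 0, 1], [1, 1, 0]], [[0, 0, 1], [0, 1, 0], [0, 1, 0], [1, 0, 0], [1,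
    0, 0], [1, 0, 1]]]),
  ([0], 2, [[[-1, 1], [1, 1]], [[0, 1], [0, 1], [1, 0], [1, 0]]]),
  ([], 2, [[[1], [1]]])]

theorem chk3702 : chk D3702 = true := by decide +kernel

def x1 (r : ℕ → ℤ) : ℤ := 3 * r 0 + 3 * r 1 - 4 * r 4 - 2 * r 5 + 4 * r 7 - 3 * r 8
def x2 (r : ℕ → ℤ) : ℤ := -3 * r 2 - 3 * r 3 + 2 * r 4 - 2 * r 5 - 2 * r 7
def x3 (r : ℕ → ℤ) : ℤ := -3 * r 0 - 3 * r 1 + 3 * r 2 + 3 * r 3 - r 4 - 2 * r 5 - 9 * r 6 + r 7 + 3 * r 8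

def f1 (x y z : ℤ) : ℤ := 2 * (x * y * z) - y * y * z - z * z * y
def f2 (x y z : ℤ) : ℤ := x * y * z + y * y * z - 2 * (z * z * y)
def f3 (x y z : ℤ) : ℤ := -(x * x * z) + 3 * (y * y * x) + 3 * (x * y * z) - z * z * x - 2 * (y * y * z) -
  2 * (z * z * y)

theorem arith3702 {a b x y g k : ℤ} (h1 : g * (a + b) = 108 * (a * b)) (h2 : g * (y + 2 * x) = 243 * (x * y))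
    (h3 : a ^ 2 + b ^ 2 + x ^ 2 + 2 * y ^ 2 ≤ g) (ha : a % 27 = 12) (hb : b % 27 = 12) (hx : x % 27 = 8)
    (hy : y % 27 = 8) (h4 : x + 2 * y = a + b) (hg : g = 648 * k) (hk : k % 27 = 1) : g = 648 := by
  have x0 : 0 < x ^ 2 := sq_pos_iff.2 (by omega)
  have g0 : 0 < g := by nlinarith [sq_nonneg a, sq_nonneg b, sq_nonneg y]
  have m1 : a + b < 54 := lt_of_mul_lt_mul_left (a := g) (by nlinarith [sq_nonneg (a - b), sq_nonneg y]) g0.le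
  have m2 : -54 < a + b := lt_of_mul_lt_mul_left (a := g) (by nlinarith [sq_nonneg (a + b), sq_nonneg y]) g0.le
  have n1 : y + 2 * x < 92 := lt_of_mul_lt_mul_left (a := g)
    (by nlinarith [sq_nonneg (2 * x - 3 * y), sq_nonneg a, sq_nonneg b, sq_nonneg y]) g0.le
  have n2 : -92 < y + 2 * x := lt_of_mul_lt_mul_left (a := g)
    (by nlinarith [sq_nonneg (2 * x + 3 * y), sq_nonneg a, sq_nonneg b, sq_nonneg y]) g0.le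
  obtain ⟨u, rfl⟩ : ∃ u, x = 27 * u + 8 := ⟨x / 27, by omega⟩
  obtain ⟨v, rfl⟩ : ∃ v, y = 27 * v + 8 := ⟨y / 27, by omega⟩
  have : -4 < u ∧ u < 4 ∧ -4 < v ∧ v < 4 := by omega
  obtain ⟨_, _, _, _⟩ := this
  clear h1 h3
  interval_cases u <;> interval_cases v <;> omega

set_option maxHeartbeats 1000000 in
theorem fin3702 {ι : Type*} {s : Finset ι} {cs : List (ι → ℤ)} (hG : Gram s cs D3702) {d : ι → ℤ}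
    {g k : ℤ} (hd : ∀ χ ∈ s, d χ ≠ 0 ∧ 27 ∣ d χ + 6 * x1 (fn (cs.map (· χ))) + 12 * x2 (fn (cs.map (· χ))) +
      8 * x3 (fn (cs.map (· χ))))
    (hl : ∀ i, ∑ χ ∈ s, (fn (cs.map (· χ)) i * d χ : ℚ) = fn [0, 1, 0, 1, 1, 0, 0, 0, 0] i)
    (hs : ∑ χ ∈ s, (d χ ^ 2 : ℚ) ≤ g)
    (h1 : (g : ℚ) * ∑ χ ∈ s, (f1 (x1 (fn (cs.map (· χ)))) (x2 (fn (cs.map (· χ)))) (x3 (fn (cs.map (· χ)))) : ℚ)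
      / d χ = 4374)
    (h2 : (g : ℚ) * ∑ χ ∈ s, (f2 (x1 (fn (cs.map (· χ)))) (x2 (fn (cs.map (· χ)))) (x3 (fn (cs.map (· χ)))) : ℚ)
      / d χ = 8748)
    (h3 : (g : ℚ) * ∑ χ ∈ s, (f3 (x1 (fn (cs.map (· χ)))) (x2 (fn (cs.map (· χ)))) (x3 (fn (cs.map (· χ)))) : ℚ)
      / d χ = 0) (hg : g = 648 * k) (hk : k % 27 = 1) : g = 648 := by
  obtain ⟨L, hL, δ, hP, hS⟩ := solve hG chk3702 d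
  have n1 : ∀ r, x1 (-r) = -x1 r := fun r => by simp [x1]; ring
  have n2 : ∀ r, x2 (-r) = -x2 r := fun r => by simp [x2]; ring
  have n3 : ∀ r, x3 (-r) = -x3 r := fun r => by simp [x3]; ring
  have p := hP (fun r x => x ≠ 0 ∧ 27 ∣ x + 6 * x1 r + 12 * x2 r + 8 * x3 r) hd fun r x h => by
    rw [n1, n2, n3]; omega
  have l := fun i => ((hS (fun r x => r i * x) (by simp)).2 (by simp)).trans (hl i)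
  replace hs := ((hS (fun _ x => x ^ 2) (by simp)).1 fun _ => sq_nonneg _).trans hs
  have c : ∀ f : ℤ → ℤ → ℤ → ℤ, (∀ x y z, f (-x) (-y) (-z) = -f x y z) → f 0 0 0 = 0 → _ := fun f e e0 =>
    (hS (fun r x => f (x1 r) (x2 r) (x3 r) / x) fun r x => by simp [n1, n2, n3, e, neg_div_neg_eq]).2
      (by simp [x1, x2, x3, e0])
  rw [← c f1 (by intros; simp [f1]; ring) rfl] at h1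
  rw [← c f2 (by intros; simp [f2]; ring) rfl] at h2
  rw [← c f3 (by intros; simp [f3]; ring) rfl] at h3
  have l0 := l 0; have l1 := l 1; have l2 := l 2; have l3 := l 3; have l4 := l 4; have l5 := l 5
  have l6 := l 6; have l7 := l 7; have l8 := l 8
  clear l c hP hS hd hl hG
  simp only [top, D3702, List.mem_cons, List.not_mem_nil, or_false] at hL
  rcases hL with rfl | rfl | rfl | rfl <;>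
  simp only [List.forall₂_cons_left_iff, List.forall₂_nil_left_iff, x1, x2, x3, fn_zero, fn_succ] at p
  · obtain ⟨a1, _, p1, ⟨a2, _, p2, ⟨a3, _, p3, ⟨a4, _, p4, ⟨a5, _, p5, ⟨a6, _, p6, ⟨a7, _, p7, ⟨a8, _, p8,
      ⟨a9, _, p9, ⟨a10, _, p10, ⟨a11, _, p11, ⟨a12, _, p12, rfl, rfl⟩, rfl⟩, rfl⟩, rfl⟩, rfl⟩, rfl⟩,
      rfl⟩, rfl⟩, rfl⟩, rfl⟩, rfl⟩, rfl⟩ := p
    simp only [List.zipWith, List.sum_cons, List.sum_nil, fn_zero, fn_succ] at l0 l1 l2 l3 l4 l5 l6 l7 l8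
    norm_cast at l0 l1 l2 l3 l4 l5 l6 l7 l8
    omega
  · obtain ⟨a1, _, p1, ⟨a2, _, p2, ⟨a3, _, p3, ⟨a4, _, p4, ⟨a5, _, p5, ⟨a6, _, p6, ⟨a7, _, p7, ⟨a8, _, p8,
      ⟨a9, _, p9, ⟨a10, _, p10, ⟨a11, _, p11, ⟨a12, _, p12, ⟨a13, _, p13, rfl, rfl⟩, rfl⟩, rfl⟩, rfl⟩, rfl⟩,
      rfl⟩, rfl⟩, rfl⟩, rfl⟩, rfl⟩, rfl⟩, rfl⟩, rfl⟩ := p
    simp only [List.zipWith, List.sum_cons, List.sum_nil, fn_zero, fn_succ, x1, x2, x3, f1, f2] at h1 h2 hs l0 l1 l2 l3 l4 l5 l6 l7 l8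
    norm_cast at l0 l1 l2 l3 l4 l5 l6 l7 l8 hs
    obtain rfl : a6 = -a1 := by omega
    have q1 : (a1 : ℚ) ≠ 0 := by exact_mod_cast p1.1
    have q8 : (a8 : ℚ) ≠ 0 := by exact_mod_cast p8.1
    have q9 : (a9 : ℚ) ≠ 0 := by exact_mod_cast p9.1
    have q10 : (a10 : ℚ) ≠ 0 := by exact_mod_cast p10.1
    norm_num at h1 h2
    field_simp at h1 h2
    refine arith3702 (a := a9) (b := a10) (x := a8) (y := a1) ?_ ?_ ?_ (by omega) (by omega) (by omega)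
      (by omega) (by omega) hg hk
    · apply Int.cast_injective (α := ℚ); push_cast; linear_combination h2 / 81
    · apply Int.cast_injective (α := ℚ); push_cast; linear_combination h1 / 18
    · nlinarith [sq_nonneg a2, sq_nonneg a3, sq_nonneg a4, sq_nonneg a5, sq_nonneg a7, sq_nonneg a11,
        sq_nonneg a12, sq_nonneg a13]
  · obtain ⟨a1, _, p1, ⟨a2, _, p2, ⟨a3, _, p3, ⟨a4, _, p4, ⟨a5, _, p5, ⟨a6, _, p6, ⟨a7, _, p7, ⟨a8, _, p8,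
      ⟨a9, _, p9, ⟨a10, _, p10, ⟨a11, _, p11, ⟨a12, _, p12, rfl, rfl⟩, rfl⟩, rfl⟩, rfl⟩, rfl⟩, rfl⟩,
      rfl⟩, rfl⟩, rfl⟩, rfl⟩, rfl⟩, rfl⟩ := p
    simp only [List.zipWith, List.sum_cons, List.sum_nil, fn_zero, fn_succ, x1, x2, x3, f3] at h3
    norm_num at h3
    omega
  · obtain ⟨a1, _, p1, ⟨a2, _, p2, ⟨a3, _, p3, ⟨a4, _, p4, ⟨a5, _, p5, ⟨a6, _, p6, ⟨a7, _, p7, ⟨a8, _, p8,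
      ⟨a9, _, p9, ⟨a10, _, p10, ⟨a11, _, p11, rfl, rfl⟩, rfl⟩, rfl⟩, rfl⟩, rfl⟩,
      rfl⟩, rfl⟩, rfl⟩, rfl⟩, rfl⟩, rfl⟩ := p
    simp only [List.zipWith, List.sum_cons, List.sum_nil, fn_zero, fn_succ] at l0 l1 l2 l3 l4 l5 l6 l7 l8
    norm_cast at l0 l1 l2 l3 l4 l5 l6 l7 l8
    omega

end CF.Char.T3
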