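import Cfsg.Agent.Char.BLeo
import Cfsg.Agent.Clifford.GlaubCyc
import Cfsg.Agent.Solv.PiSep

/-!
`p`-solvable groups with a TI Sylow `p`-subgroup and a small faithful character.
-/

set_option autoImplicit false

namespace CF.Char

open Cfsg Subgroup CF.BG CF.Clifford
open scoped ComplexConjugate commutatorElement

variable {G : Type*} [Group G] [Finite G] {K P : Subgroup G} {p d : ℕ} {χ : G → ℂ}

theorem mem_charCenter_of_res_irr (hχ : IsCharacter G χ) {C : Subgroup G}
    (i : IsIrrCharacter C fun c => χ c) {x : G} (hx : x ∈ 𝐂 C) : x ∈ charCenter χ := by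
  have j := irr_of_comp_irr (inclusion (le_cent1_iff.2 hx)) (char_restrict hχ (𝐂₁ x)) i
  exact (mem_charCenter_iff hχ).2 ((mem_charCenter_iff (irr_isCharacter j) (g := ⟨x, self_mem_cent1 x⟩)).1
    (center_le_charCenter j (mem_center_iff.2 fun c => Subtype.ext (mem_cent1.1 c.2))))

theorem indFun_res_of_ti [Fintype G] [K.Normal] (k : Hall {p}ᶜ K ⊤) (s : Syl p P ⊤)
    (ti : ∀ x ∈ P, x ≠ 1 → ∀ g, g * x * g⁻¹ ∈ P → g ∈ 𝐍 P) {f : G → ℂ} (hf : IsClassFunction G f)
    (z : ∀ x ∈ K, f x = 0) : indFun (𝐍 P) (fun n => f n) = f := by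
  have := Fintype.ofFinite (𝐍 P)
  have a : ∀ x ∉ K, ∃ y ∈ zpowers x, y ≠ 1 ∧ PiElt {p} y := fun x hx => by
    obtain ⟨y, w, a, -, c, d, e⟩ := exists_piPart {p} x
    refine ⟨y, a, ?_, c⟩
    rintro rfl
    exact hx (e ▸ (one_mul w).symm ▸ k.mem_normal le_normalizer_of_normal trivial d)
  have b : ∀ x : 𝐍 P, indFun (𝐍 P) (fun n => f n) x = f x := fun x =>
    indFun_apply_of_ti _ (fun _ _ => hf _ _) x fun g hg t => z _ (by_contra fun w => by
      obtain ⟨y, u, v, r⟩ := a x fun l => w (Normal.conj_mem ‹_› _ l g)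
      exact hg (ti y (s.mem_of_norm trivial (zpowers_le.2 x.2 u) r) v g (s.mem_of_norm trivial
        (zpowers_le.2 t (cj_zpowers g x ▸ conj_mem_cj.2 u)) (r.conj g))))
  funext x
  by_cases hx : x ∈ K
  · rw [z x hx, ← ind_subtype]
    exact ind_apply_eq_zero _ _ fun g n t e => t (z _ (e.symm ▸ Normal.conj_mem' ‹_› x hx g :))
  obtain ⟨y, u, v, r⟩ := a x hx
  obtain ⟨g, -, hg⟩ := s.syl_cj_le le_top r.zpowers
  have t := hg (conj_mem_cj.2 (mem_zpowers y))
  rw [← hf x g, ← indFun_isClassFunction _ _ x g]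
  refine b ⟨_, ti _ t (by simpa using v) _ ?_⟩
  obtain ⟨j, rfl⟩ := u
  rwa [((Commute.self_zpow x j).conj g).eq, mul_inv_cancel_right]

theorem comm_le_charKer_of_ti [K.Normal] (k : Hall {p}ᶜ K ⊤) (s : Syl p P ⊤)
    (ti : ∀ x ∈ P, x ≠ 1 → ∀ g, g * x * g⁻¹ ∈ P → g ∈ 𝐍 P) (hχ : IsIrrCharacter G χ) (e : χ 1 = d)
    (l : d ^ 2 ≤ ♯P) : ⁅K, P⁆ ≤ charKer χ := by
  classical
  have := Fintype.ofFinite G
  have := Fintype.ofFinite K
  have := Fintype.ofFinite (𝐍 P)
  have := Fintype.ofFinite (K ⊓ 𝐍 P : Subgroup G)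
  have c := irr_isCharacter hχ
  have cf := irr_isClassFunction hχ
  have kP : K.index = ♯P := by rw [← relIndex_top_right, k.relIndex_eq s.compl_compl]
  have C : P ≤ 𝐂 (K ⊓ 𝐍 P) := s.pi.cent_of_norm k.pi.inf_left (norm_inf le_normalizer_of_normal
    (le_normalizer.trans le_normalizer)) inf_le_right
  let E := NormalEmb.sub K
  let F : NormalEmb (K ⊓ 𝐍 P : Subgroup G) (𝐍 P) := .ofLe inf_le_right fun t ht n hn =>
    mem_inf.2 ⟨Normal.conj_mem ‹_› _ hn.1 t, mul_mem (mul_mem ht hn.2) (inv_mem ht)⟩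
  have fP : F.index = ♯P := by
    rw [← (k.inf_of_norm' le_top le_normalizer_of_normal).relIndex_eq
      (s.of_le le_normalizer le_top).compl_compl]
    exact NormalEmb.index_ofLe _ _
  have r : (fun n : 𝐍 P => ind E.ι (fun x => χ (E.ι x)) n) = ind F.ι fun x => χ x := funext fun n => by
    by_cases hn : (n : G) ∈ K
    · refine (congrFun (E.res_ind_of_invariant (E.invariant_res cf)) ⟨n, hn⟩).trans (Eq.trans ?_
        (congrFun (F.res_ind_of_invariant (F.invariant_res (χ := fun n => χ n) fun _ _ => cf _ _))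
          ⟨n, hn, n.2⟩).symm)
      rw [fP, NormalEmb.index_sub, kP]; rfl
    rw [E.ind_apply_of_not_mem _ fun ⟨y, hy⟩ => hn (hy ▸ y.2), F.ind_apply_of_not_mem _ fun ⟨y, hy⟩ =>
      hn (hy ▸ y.2.1)]
  have cl := classFun_sub (classFun_smul (♯P : ℂ) cf) (ind_isClassFunction E.ι fun x => χ (E.ι x))
  have m := inner_indFun_left (𝐍 P) (fun n => ((♯P : ℂ) • χ - ind E.ι (fun x => χ (E.ι x)) : G → ℂ) n) cf
  rw [indFun_res_of_ti k s ti cl fun x hx => sub_eq_zero.2 ((congrFun (E.res_ind_of_invariant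
    (E.invariant_res cf)) ⟨x, hx⟩).trans (by rw [NormalEmb.index_sub, kP]; rfl)).symm, inner_sub_left,
      inner_smul_left, inner_irr_self hχ, inner_ind_left _ _ cf] at m
  replace m := m.trans ((inner_sub_left ((♯P : ℂ) • fun n : 𝐍 P => χ n) _ _).trans (by
    rw [inner_smul_left, r, inner_ind_left (χ := fun n : 𝐍 P => χ n) _ _ fun _ _ => cf _ _]))
  obtain ⟨θ, hθ, t⟩ := exists_irr_constituent_comp E.ι hχ
  obtain ⟨a, ha⟩ := inner_char_eq_nat (char_comp c E.ι) (irr_isCharacter hθ)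
  obtain ⟨b, hb⟩ := inner_char_eq_nat (char_restrict c (𝐍 P)) (char_restrict c (𝐍 P))
  obtain ⟨n, hn⟩ := inner_char_eq_nat (char_restrict c (K ⊓ 𝐍 P)) (char_restrict c (K ⊓ 𝐍 P))
  have a0 : 0 < a := Nat.pos_of_ne_zero (by rintro rfl; exact t (by simpa using ha))
  have i0 := Nat.pos_of_ne_zero (index_ne_zero_of_finite (H := E.inertia θ))
  rw [E.inner_res_self hχ hθ t, ha, hb] at m
  replace m : ♯P + n = ♯P * b + a ^ 2 * (E.inertia θ).index := by
    have := m.trans (congrArg _ hn)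
    exact_mod_cast (by push_cast; linear_combination this : ((♯P + n : ℕ) : ℂ) =
      (♯P * b + a ^ 2 * (E.inertia θ).index : ℕ))
  have nd : n ≤ d ^ 2 := by
    have := (congrArg Complex.re hn).symm.trans (inner_self_re _)
    rw [Complex.natCast_re, eq_inv_mul_iff_mul_eq₀ (Nat.cast_ne_zero.2 Nat.card_pos.ne')] at this
    refine Nat.cast_le.1 (le_of_mul_le_mul_left (this.trans_le ((Finset.sum_le_card_nsmul _ _ ((d : ℝ) ^ 2)
      fun x _ => pow_le_pow_left₀ (norm_nonneg _) ((char_norm_le c _).trans_eq (by simp [e])) 2).trans_eq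
        (by simp))) (Nat.cast_pos.2 Nat.card_pos))
  obtain rfl : b = 1 := by
    have : b ≠ 0 := by
      rintro rfl
      exact irr_one_ne_zero hχ (congrFun (inner_self_eq_zero.1 (hb.trans Nat.cast_zero)) 1)
    have := Nat.mul_pos (Nat.pow_pos a0 (n := 2)) i0
    by_contra w
    have := Nat.mul_le_mul_left (♯P) (show 2 ≤ b by omega)
    omega
  have iN := (irr_iff_inner_self (char_restrict c (𝐍 P))).2 (hb.trans Nat.cast_one)
  let j := inclusion (inf_le_left : K ⊓ 𝐍 P ≤ K)
  obtain ⟨γ, hγ, u⟩ := exists_irr_constituent_comp j hθ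
  have u' := inner_comp_ne_zero_of_constituent j (char_comp c E.ι) hθ (irr_isCharacter hγ) t u
  obtain ⟨w, -, hw⟩ := F.exists_nat_res_eq_of_invariant iN hγ (F.invariant_iff_inertia.2 (top_le_iff.1
    fun x _ => by
      obtain ⟨y, hy, z, hz, o⟩ := (k.inf_of_norm' le_top le_normalizer_of_normal).exists_mul
        (s.of_le le_normalizer le_top).compl_compl x.2
      rw [show x = F.ι ⟨y, hy⟩ * ⟨z, le_normalizer hz⟩ from Subtype.ext o.symm]
      exact mul_mem (F.ι_mem_inertia (irr_isClassFunction hγ) _) (F.mem_inertia'.2 fun n => congrArg γ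
        (Subtype.ext (mul_inv_eq_iff_eq_mul.2 (mem_cent.1 (C hz) n n.2).symm))))) u'
  obtain ⟨v, hv⟩ := inner_char_eq_nat (char_comp (irr_isCharacter hθ) j) (irr_isCharacter hγ)
  have tv := eq_smul_of_unique_constituent (char_isClassFunction (char_comp (irr_isCharacter hθ) j)) hγ
    fun ψ x y => (eq_of_inner_smul_ne_zero hγ x (hw ▸ inner_comp_ne_zero_of_constituent j
      (char_comp c E.ι) hθ (irr_isCharacter x) t y :)).symm
  have e1 : w = a * ((E.inertia θ).index * v) := by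
    have := (congrFun hw 1).symm.trans (E.clifford_one hχ hθ t)
    rw [ha, ← map_one j, congrFun tv 1, hv, Pi.smul_apply, Pi.smul_apply, smul_eq_mul, smul_eq_mul,
      ← mul_assoc, ← mul_assoc, mul_left_inj' (irr_one_ne_zero hγ), mul_assoc] at this
    exact_mod_cast this
  have e2 : n = w ^ 2 := by
    have := hn.symm.trans (congrArg₂ classInner hw hw)
    rw [inner_smul_left, inner_smul_right, inner_irr_self hγ, map_natCast, mul_one, ← sq] at this
    exact_mod_cast this
  rw [mul_one, add_right_inj] at m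
  have e3 : (E.inertia θ).index * v ^ 2 = 1 := Nat.eq_of_mul_eq_mul_left (Nat.mul_pos (Nat.pow_pos a0
    (n := 2)) i0) (by rw [mul_one]; exact Eq.trans (by ring) ((e1 ▸ e2).symm.trans m))
  have inv := E.invariant_iff_inertia.2 (index_eq_one.1 (Nat.eq_one_of_mul_eq_one_right e3))
  rw [hv, (Nat.pow_eq_one.1 (Nat.eq_one_of_mul_eq_one_left e3)).resolve_right two_ne_zero, Nat.cast_one,
    one_smul] at tv
  obtain ⟨η, hη, x, -⟩ := E.exists_canon (by rw [NormalEmb.index_sub, kP]; exact s.pi.coprime k.pi) hθ inv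
  refine commutator_le.2 fun y hy z hz => (mem_charKer_iff c).2 ?_
  have q : ⁅y, z⁆ ∈ K := commutator_le_left K P (commutator_mem_commutator hy hz)
  have := (mem_charKer_iff (irr_isCharacter hη.irr)).1 (inv_mem (commutator_mem_charKer_of_mem_charCenter
    (irr_isClassFunction hη.irr) (mem_charCenter_of_res_irr (irr_isCharacter hη.irr)
      (show IsIrrCharacter _ _ from (funext fun c => (x (j c)).trans (congrFun tv c)) ▸ hγ) (C hz)) y))
  have o := E.res_eq_smul_of_invariant hχ hθ inv t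
  refine (congrFun o ⟨_, q⟩).trans (Eq.trans ?_ (congrFun o 1).symm)
  rw [Pi.smul_apply, Pi.smul_apply, ← x, ← x, map_one, ← this]
  simp [commutatorElement_def, mul_assoc, E]

theorem normal_of_ti [Fact p.Prime] (hs : IsPSolvable p G) (s : Syl p P ⊤)
    (ti : ∀ x ∈ P, x ≠ 1 → ∀ g, g * x * g⁻¹ ∈ P → g ∈ 𝐍 P) (hχ : IsCharacter G χ) (hf : charKer χ = ⊥)
    (e : χ 1 = d) (l : d ^ 2 ≤ ♯P) : P.Normal := by
  have hp : p.Prime := Fact.out
  by_contra w
  have o : pCore p G = ⊥ := eq_bot_iff.2 fun x hx => by_contra fun t => w (normalizer_eq_top_iff.1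
    (top_le_iff.1 fun g _ => ti x (s.O_le (pCore_eq (G := G) hp ▸ hx)) t g (s.O_le (pCore_eq (G := G) hp ▸
      Normal.conj_mem inferInstance x hx g))))
  have c := Solv.centralizer_pPrimeCore_le_of_isPSolvable hs o
  rw [pPrimeCore_eq hp] at c
  have n := normalIn_top.1 (O_normal {p}ᶜ (⊤ : Subgroup G))
  set K := 𝐎 {p}ᶜ (⊤ : Subgroup G)
  have k : PiGrp {p}ᶜ K := O_pi _ _
  have := Fintype.ofFinite (K ⊔ P : Subgroup G)
  have : ⁅K.subgroupOf (K ⊔ P), P.subgroupOf (K ⊔ P)⁆ ≤ charKer fun x : (K ⊔ P : Subgroup G) => χ x :=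
    fun x hx => mem_charKer_of_constituents (char_isClassFunction (char_restrict hχ _)) fun ψ a b => by
      obtain ⟨m, -, t⟩ := irr_one_eq_nat a
      refine comm_le_charKer_of_ti (p := p) (by
        simpa using hall_subgroupOf (Hall.mk le_sup_left k (relIndex_sup_left P K ▸
          (s.pi.relIndex K).compl_compl)) le_rfl) (by
        simpa using hall_subgroupOf (s.of_le le_sup_right le_top) le_rfl) (fun y hy u g hg => ?_) a t
          ((Nat.pow_le_pow_left (irr_one_le_of_inner_ne_zero (char_restrict hχ _) a b t e) 2).trans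
            (l.trans_eq (Nat.card_congr (subgroupOfEquivOfLe le_sup_right).toEquiv).symm)) hx
      exact mem_norm.2 fun z => mem_norm.1 (ti y hy (fun w => u (Subtype.ext w)) g hg) z
  rw [charKer_restrict hχ, hf, bot_subgroupOf, le_bot_iff] at this
  have := congrArg (map (K ⊔ P).subtype) this
  rw [map_commutator, map_subgroupOf_eq_of_le le_sup_left, map_subgroupOf_eq_of_le le_sup_right,
    Subgroup.map_bot, commutator_comm, commutator_eq_bot_iff_le_centralizer] at this
  exact w ((s.pi.eq_bot (k.le (this.trans c))).symm ▸ inferInstance)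

end CF.Char
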