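import Cfsg.Agent.Char.Over
import Cfsg.Agent.BlockB.GA

/-! Counting characters over a character: character triples and Gallagher's count. -/

namespace CF.Char

open Cfsg CF.Clifford
open scoped ComplexConjugate

universe u

variable {G N H Q : Type*} [Group G] [Group N] [Group H] [Group Q]

/-- The number of irreducible characters of degree prime to `p` over `θ`. -/
noncomputable def cnt (p : ℕ) (j : N →* G) (θ : N → ℂ) : ℕ :=
  Nat.card {χ : IrrCharacter G // ¬ p ∣ charDegree (χ : G → ℂ) ∧ Ov j θ χ}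

/-- The number of irreducible characters of the subgroup `U` of degree prime to `p` over `θ`. -/
noncomputable def cs (p : ℕ) (j : N →* G) (θ : N → ℂ) (U : Subgroup G) : ℕ :=
  Nat.card {χ : IrrCharacter U // ¬ p ∣ charDegree (χ : U → ℂ) ∧ Ov j θ (extendByZero U χ)}

/-- `θ` extends to the subgroup `U`. -/
def ExtTo (j : N →* G) (θ : N → ℂ) (U : Subgroup G) : Prop :=
  ∃ η : G → ℂ, IsCharacter U (fun u : U => η u) ∧ ∀ n, η (j n) = θ n

theorem charDegree_congr {χ : G → ℂ} {ψ : H → ℂ} (h : χ 1 = ψ 1) : charDegree χ = charDegree ψ := by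
  simp only [charDegree, h]

theorem charDegree_of_eq {χ : G → ℂ} {n : ℕ} (h : χ 1 = n) : charDegree χ = n := by
  simp [charDegree, h]

theorem charDegree_of_mul {χ : G → ℂ} {ψ : H → ℂ} (hψ : IsCharacter H ψ) {k : ℕ}
    (h : χ 1 = k * ψ 1) : charDegree χ = k * charDegree ψ :=
  charDegree_of_eq (by rw [h, Nat.cast_mul, BlockB.charDegree_eq hψ])

theorem charDegree_of_mul' {χ : G → ℂ} {ψ : H → ℂ} {θ : N → ℂ} (hψ : IsCharacter H ψ)
    (hθ : IsCharacter N θ) (h : χ 1 = ψ 1 * θ 1) : charDegree χ = charDegree ψ * charDegree θ :=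
  charDegree_of_mul hθ (by rw [h, BlockB.charDegree_eq hψ])

theorem not_zero_dvd_charDegree {χ : G → ℂ} (hχ : IsIrrCharacter G χ) : ¬ 0 ∣ charDegree χ := by
  rw [zero_dvd_iff]
  exact BlockB.irr_charDegree_ne_zero ⟨χ, hχ⟩

theorem bij_equiv (e : G ≃* H) {P : (G → ℂ) → Prop} {R : (H → ℂ) → Prop}
    (h : ∀ β, IsIrrCharacter H β → (P (fun g => β (e g)) ↔ R β)) :
    Bij (fun χ β => χ = fun g => β (e g)) P R where
  ex χ a b := ⟨fun x => χ (e.symm x), irr_comp_equiv a e.symm,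
    (h _ (irr_comp_equiv a e.symm)).1 (by simpa using b), by simp⟩
  uniq χ β γ _ _ _ _ _ _ g i := funext fun x => by
    simpa using congrFun (g.symm.trans i) (e.symm x)
  inj _ _ _ _ _ _ _ _ _ g i := g.trans i.symm
  surj β a b := ⟨_, irr_comp_equiv a e, (h β a).2 b, rfl⟩

theorem cnt_eq_cs (p : ℕ) {f : H →* G} (hf : Function.Injective f) {U : Subgroup G}
    (hU : f.range = U) {j' : N →* H} {j : N →* G} (hj : ∀ n, f (j' n) = j n) (θ : N → ℂ) :
    cnt p j' θ = cs p j θ U := by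
  subst hU
  refine (bij_equiv (MonoidHom.ofInjective hf) (P := fun χ => ¬ p ∣ charDegree χ ∧ Ov j' θ χ)
    (R := fun χ => ¬ p ∣ charDegree χ ∧ Ov j θ (extendByZero _ χ))
    fun β _ => and_congr ?_ (ov_congr fun n => ?_)).card_eq
  · rw [charDegree_congr (ψ := β) (by simp)]
  · rw [← hj, extendByZero_of_mem f.range β ⟨_, rfl⟩]; rfl

theorem cs_eq_cnt (p : ℕ) {U : Subgroup G} {j : N →* G} (h : ∀ n, j n ∈ U) (θ : N → ℂ) :
    cs p j θ U = cnt p (j.codRestrict U h) θ :=
  (cnt_eq_cs p U.subtype_injective U.range_subtype (fun _ => rfl) θ).symm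

theorem cs_top (p : ℕ) (j : N →* G) (θ : N → ℂ) : cs p j θ ⊤ = cnt p j θ :=
  (cnt_eq_cs p (f := MonoidHom.id G) Function.injective_id
    (MonoidHom.range_eq_top.2 Function.surjective_id) (j' := j) (fun _ => rfl) θ).symm

theorem cs_map (p : ℕ) {f : H →* G} (hf : Function.Injective f) {U : Subgroup H}
    {j' : N →* H} {j : N →* G} (hj : ∀ n, f (j' n) = j n) (h : ∀ n, j' n ∈ U) (θ : N → ℂ) :
    cs p j θ (U.map f) = cs p j' θ U := by
  rw [cs_eq_cnt p h]
  exact (cnt_eq_cs p (f := f.comp U.subtype) (hf.comp U.subtype_injective)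
    (by rw [MonoidHom.range_comp, U.range_subtype]) hj θ).symm

theorem extTo_map {f : H →* G} (hf : Function.Injective f) {U : Subgroup H}
    {j' : N →* H} {j : N →* G} (hj : ∀ n, f (j' n) = j n) {θ : N → ℂ} :
    ExtTo j θ (U.map f) ↔ ExtTo j' θ U := by
  refine ⟨fun ⟨η, h1, h2⟩ => ⟨fun x => η (f x), char_comp h1 (f.subgroupMap U), fun n => by
    simp only [hj, h2]⟩, fun ⟨η, h1, h2⟩ => ⟨Function.extend f η 0, ?_, fun n => by
      rw [← hj, hf.extend_apply, h2]⟩⟩
  convert char_comp h1 (U.equivMapOfInjective f hf).symm.toMonoidHom using 2 with u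
  obtain ⟨v, rfl⟩ := (U.equivMapOfInjective f hf).surjective u
  simp [hf.extend_apply]

theorem ExtTo.mono {j : N →* G} {θ : N → ℂ} {U V : Subgroup G} (h : ExtTo j θ U) (hV : V ≤ U) :
    ExtTo j θ V :=
  let ⟨η, h1, h2⟩ := h
  ⟨η, char_comp h1 (Subgroup.inclusion hV), h2⟩

theorem extTo_of_char {j : N →* G} {θ : N → ℂ} {U : Subgroup G} (h : ∀ n, j n ∈ U) {η : U → ℂ}
    (hη : IsCharacter U η) (e : ∀ n, η ⟨j n, h n⟩ = θ n) : ExtTo j θ U :=
  ⟨extendByZero U η, by simpa only [extendByZero_coe] using hη, fun n => by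
    rw [extendByZero_of_mem _ _ (h n), e]⟩

theorem extTo_iff [Finite G] [Finite N] {j : N →* G} {θ : N → ℂ} (hθ : IsIrrCharacter N θ)
    {U : Subgroup G} (h : ∀ n, j n ∈ U) : ExtTo j θ U ↔
      ∃ χ, IsIrrCharacter U χ ∧ Ov (j.codRestrict U h) θ χ ∧ χ 1 = θ 1 := by
  refine ⟨fun ⟨η, h1, h2⟩ => ⟨fun u => η u, irr_of_comp_irr (j.codRestrict U h) h1 ?_,
    ov_of_ext hθ h2, by simpa using h2 1⟩, fun ⟨χ, h1, h2, h3⟩ => ?_⟩
  · exact (funext h2 : _ = θ) ▸ hθ
  have := Fintype.ofFinite N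
  have := eq_of_inner_ne_zero_of_one_eq (char_comp (irr_isCharacter h1) (j.codRestrict U h)) hθ
    (ov_iff.1 h2) (by rw [map_one, h3])
  exact extTo_of_char h (irr_isCharacter h1) (congrFun this)

theorem ExtTo.le_inertia [Finite G] {E : NormalEmb N G} {θ : N → ℂ} {U : Subgroup G}
    (h : ExtTo E.ι θ U) (hU : ∀ n, E.ι n ∈ U) : U ≤ E.inertia θ := fun u hu => by
  obtain ⟨η, h1, h2⟩ := h
  refine E.mem_inertia'.2 fun n => ?_
  rw [← h2, ← h2, E.ι_c]
  exact classFun_conj (char_isClassFunction h1) ⟨_, hU n⟩ ⟨u, hu⟩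

theorem cnt_clifford [Finite G] (p : ℕ) (E : NormalEmb N G) {θ : N → ℂ} (hθ : IsIrrCharacter N θ)
    {T : Subgroup G} (hT : E.inertia θ ≤ T) (hp : p.Coprime T.index ∨ p = 0) :
    cnt p E.ι θ = cs p E.ι θ T := by
  have := Fintype.ofFinite G
  have := Fintype.ofFinite T
  have h : ∀ n, E.ι n ∈ T := fun n => hT (E.ι_mem_inertia (irr_isClassFunction hθ) n)
  rw [cs_eq_cnt p h]
  have b := bij_clifford E (E.restrict T h) T.subtype T.subtype_injective (fun _ => rfl) hθ
    (by simpa using hT)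
  refine (bij_congr (bij_restrict (P' := fun χ => ¬ p ∣ charDegree χ)
    (Q' := fun χ => ¬ p ∣ charDegree χ) b ?_) (fun _ _ => and_comm) fun _ _ => and_comm).card_eq
  rintro _ ψ hχ hψ - - rfl
  rcases hp with hp | rfl
  · rw [charDegree_of_mul (irr_isCharacter hψ) (ind_one _ T.subtype_injective ψ), T.range_subtype,
      hp.dvd_mul_left]
  · simp only [not_zero_dvd_charDegree hχ, not_zero_dvd_charDegree hψ]

theorem bij_inflate [Finite G] (a : G →* H) (ha : Function.Surjective a) {P : (H → ℂ) → Prop}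
    {R : (G → ℂ) → Prop} (h : ∀ β, IsIrrCharacter H β → (P β ↔ R fun g => β (a g))) :
    Bij (fun β χ => χ = fun g => β (a g)) P (fun χ => R χ ∧ a.ker ≤ charKer χ) where
  ex β b c := ⟨_, irr_comp_of_surjective b a ha, ⟨(h β b).1 c, ker_le_charKer_comp _ _⟩, rfl⟩
  uniq _ _ _ _ _ _ _ _ _ g i := g.trans i.symm
  inj β γ _ _ _ _ _ _ _ g i := funext fun x => by
    obtain ⟨y, rfl⟩ := ha x
    exact congrFun (g.symm.trans i) y
  surj χ b c := by
    obtain ⟨β, d, rfl⟩ := exists_irr_of_ker_le b a ha c.2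
    exact ⟨β, d, (h β d).2 c.1, rfl⟩

theorem bij_lift {Δ T T' Z : Type*} [Group Δ] [Group T] [Group T'] [Group Z] [Finite Δ] [Finite Z]
    (F : NormalEmb N Δ) (a : Δ →* T) (ha : Function.Surjective a) (b : Δ →* T')
    (hb : Function.Surjective b) (kb : b.ker = F.ι.range) (i : Z →* Δ) (ka : a.ker = i.range)
    (hc : ∀ z, i z ∈ Subgroup.center Δ) {θ : N → ℂ} (hθ : IsIrrCharacter N θ) {η : Δ → ℂ}
    (hη : IsCharacter Δ η) (hext : ∀ n, η (F.ι n) = θ n) (lam : Z →* ℂˣ)
    (sc : ∀ z, η (i z) = lam z * η 1) :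
    ∃ R, Bij R (Ov (a.comp F.ι) θ) (Ov (b.comp i) fun z => (lam⁻¹ z : ℂ)) ∧
      ∀ χ β, R χ β → χ 1 = β 1 * θ 1 := by
  have := Fintype.ofFinite Z
  have := Finite.of_surjective _ hb
  have b1 := bij_inflate a ha (P := Ov (a.comp F.ι) θ) (R := Ov F.ι θ) fun _ _ => Iff.rfl
  have h1 : η 1 ≠ 0 := by rw [← map_one F.ι, hext]; exact irr_one_ne_zero hθ
  have b2 := bij_restrict (P' := fun χ => a.ker ≤ charKer χ)
    (Q' := Ov (b.comp i) fun z => (lam⁻¹ z : ℂ)) (bij_gallagher F b hb kb hθ hη hext) (by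
      rintro _ β hχ hβ - - rfl
      rw [ka, ov_iff]
      refine ⟨fun h => ?_, ?_⟩
      · have : (fun z => β (b.comp i z)) = β 1 • fun z => (lam⁻¹ z : ℂ) := funext fun z => by
          have := (mem_charKer_iff (irr_isCharacter hχ)).1 (h ⟨z, rfl⟩)
          simp only [Pi.mul_apply, sc, map_one, ← mul_assoc, mul_left_inj' h1] at this
          simp [← this]
        rw [this, inner_smul_left, inner_irr_self (irr_linear _), mul_one]
        exact irr_one_ne_zero hβ
      · rintro h _ ⟨z, rfl⟩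
        have := scalar_of_inner (b.comp i) (fun z => Subgroup.mem_center_iff.2 fun g => by
          obtain ⟨y, rfl⟩ := hb g
          simp only [MonoidHom.comp_apply, ← map_mul, Subgroup.mem_center_iff.1 (hc z) y]) hβ h z 1
        rw [mul_one, MonoidHom.comp_apply] at this
        rw [mem_charKer_iff (irr_isCharacter hχ)]
        simp only [Pi.mul_apply, this, sc, map_one]
        simp [mul_comm, mul_left_comm])
  refine ⟨_, bij_congr (b1.comp b2) (fun _ _ => Iff.rfl) fun _ _ => by simp, ?_⟩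
  rintro χ β ⟨ξ, -, -, e1, e2⟩
  simpa [← hext] using congrFun (e1.symm.trans e2) 1

/-- An isomorphism of character triples with one having a central subgroup. -/
structure TripIso (E : NormalEmb N G) (θ : N → ℂ) (π : G →* Q) {Z Γ : Type*} [Group Z] [Group Γ]
    (F : NormalEmb Z Γ) (μ : Z →* ℂˣ) (ρ : Γ →* Q) : Prop where
  central : ∀ z, F.ι z ∈ Subgroup.center Γ
  kerπ : π.ker = E.ι.range
  ker : ρ.ker = F.ι.range
  surj : Function.Surjective ρ
  bij : ∀ (U : Subgroup Q) (h : ∀ n, E.ι n ∈ U.comap π) (k : ∀ z, F.ι z ∈ U.comap ρ),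
    ∃ R, Bij R (Ov (E.ι.codRestrict _ h) θ) (Ov (F.ι.codRestrict _ k) fun z => (μ z : ℂ)) ∧
      ∀ χ β, R χ β → χ 1 = β 1 * θ 1

theorem mem_comap_of_ker {E : NormalEmb N G} {π : G →* Q} (h : π.ker = E.ι.range)
    (U : Subgroup Q) (n : N) : E.ι n ∈ U.comap π :=
  Subgroup.ker_le_comap π U (h ▸ ⟨n, rfl⟩)

theorem exists_tripIso {G : Type u} [Group G] [Finite G] (E : NormalEmb N G) {θ : N → ℂ}
    (hθ : IsIrrCharacter N θ) (hi : E.Invariant θ) (π : G →* Q) (hπ : Function.Surjective π)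
    (hk : π.ker = E.ι.range) :
    ∃ (Z Γ : Type u) (_ : Group Z) (_ : Group Γ) (_ : Finite Γ) (F : NormalEmb Z Γ) (μ : Z →* ℂˣ)
      (ρ : Γ →* Q), TripIso E θ π F μ ρ := by
  have := Finite.of_injective _ E.inj
  obtain ⟨Γ, _, _, E', σ, η, lam, L⟩ := E.exists_isLift hθ hi
  let b := QuotientGroup.mk' E'.ι.range
  have k1 : ∀ n, π (E.ι n) = 1 := fun n => by rw [← MonoidHom.mem_ker, hk]; exact ⟨n, rfl⟩
  let ρ : Γ ⧸ E'.ι.range →* Q := QuotientGroup.lift _ (π.comp σ) (by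
    rintro _ ⟨n, rfl⟩
    simp [L.π_ι, k1])
  have hρ : ∀ x, ρ (b x) = π (σ x) := fun _ => rfl
  let i : σ.ker →* Γ ⧸ E'.ι.range := b.comp (Subgroup.subtype _)
  have hc : ∀ z, i z ∈ Subgroup.center _ := fun z => Subgroup.mem_center_iff.2 fun g => by
    obtain ⟨y, rfl⟩ := QuotientGroup.mk'_surjective _ g
    change b y * b z = b z * b y
    rw [← map_mul, ← map_mul, Subgroup.mem_center_iff.1 (L.central z.2) y]
  have inj : Function.Injective i := (injective_iff_map_eq_one _).2 fun z hz => by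
    obtain ⟨n, hn⟩ := (QuotientGroup.eq_one_iff (z : Γ)).1 hz
    obtain rfl := L.eq_one_of_ι_mem_ker (hn ▸ z.2)
    exact Subtype.ext (by simpa using hn.symm)
  have : i.range.Normal := normal_of_le_center (by rintro _ ⟨z, rfl⟩; exact hc z)
  refine ⟨σ.ker, _, inferInstance, inferInstance, inferInstance, NormalEmb.ofInjective i inj,
    lam⁻¹, ρ, hc, hk, ?_, fun q => ?_, fun U h k => ?_⟩
  · ext x
    obtain ⟨y, rfl⟩ := QuotientGroup.mk'_surjective _ x
    refine ⟨fun hy => ?_, ?_⟩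
    · obtain ⟨n, hn⟩ : σ y ∈ E.ι.range := hk ▸ hy
      refine ⟨⟨y * (E'.ι n)⁻¹, by simp [MonoidHom.mem_ker, L.π_ι, hn]⟩, ?_⟩
      change b (y * (E'.ι n)⁻¹) = b y
      rw [map_mul, map_inv, show b (E'.ι n) = 1 from (QuotientGroup.eq_one_iff _).2 ⟨n, rfl⟩]
      simp
    · rintro ⟨z, hz⟩
      rw [← hz]
      change π (σ z) = 1
      rw [z.2, map_one]
  · obtain ⟨g, rfl⟩ := hπ q
    obtain ⟨y, rfl⟩ := L.surj g
    exact ⟨b y, rfl⟩
  · let Δ := (U.comap π).comap σ
    have hF : ∀ n, E'.ι n ∈ Δ := fun n => by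
      change σ _ ∈ U.comap π
      rw [L.π_ι]; exact h n
    have hZ : ∀ z : σ.ker, (z : Γ) ∈ Δ := fun z => Subgroup.ker_le_comap _ _ z.2
    obtain ⟨R, h1, h2⟩ := bij_lift (E'.restrict Δ hF) (σ.subgroupComap _)
      (σ.subgroupComap_surjective_of_surjective _ L.surj)
      ((b.comp Δ.subtype).codRestrict (U.comap ρ) fun x => x.2) (fun ⟨y, hy⟩ => by
        obtain ⟨x, rfl⟩ := QuotientGroup.mk'_surjective _ y
        exact ⟨⟨x, hy⟩, rfl⟩) (by
        ext x
        exact (Subtype.ext_iff.trans (QuotientGroup.eq_one_iff (x : Γ))).trans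
          ⟨fun ⟨n, hn⟩ => ⟨n, Subtype.ext hn⟩, fun ⟨n, hn⟩ => ⟨n, congrArg Subtype.val hn⟩⟩)
      ((Subgroup.subtype _).codRestrict Δ hZ) (by
        ext x
        refine ⟨fun hx => ⟨⟨x, congrArg Subtype.val hx⟩, rfl⟩, ?_⟩
        rintro ⟨z, rfl⟩
        exact Subtype.ext z.2)
      (fun z => Subgroup.mem_center_iff.2 fun g =>
        Subtype.ext (Subgroup.mem_center_iff.1 (L.central z.2) g)) hθ
      (char_restrict (irr_isCharacter L.irr) Δ) L.ext lam (fun z => by
        have := L.scalar z 1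
        rwa [mul_one] at this)
    exact ⟨R, bij_congr h1 (fun χ _ => ov_congr fun n => congrArg χ (Subtype.ext (L.π_ι n)))
      fun _ _ => Iff.rfl, h2⟩

namespace TripIso

variable {E : NormalEmb N G} {θ : N → ℂ} {π : G →* Q} {Z Γ : Type*} [Group Z] [Group Γ]
  {F : NormalEmb Z Γ} {μ : Z →* ℂˣ} {ρ : Γ →* Q} (h : TripIso E θ π F μ ρ)
include h

theorem cs_eq {p : ℕ} (hθ : IsIrrCharacter N θ) (hp : p.Coprime (charDegree θ) ∨ p = 0)
    (U : Subgroup Q) : cs p E.ι θ (U.comap π) = cs p F.ι (fun z => μ z) (U.comap ρ) := by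
  rw [cs_eq_cnt p (mem_comap_of_ker h.kerπ U), cs_eq_cnt p (mem_comap_of_ker h.ker U)]
  obtain ⟨R, h1, h2⟩ := h.bij U (mem_comap_of_ker h.kerπ U) (mem_comap_of_ker h.ker U)
  refine (bij_congr (bij_restrict (P' := fun χ => ¬ p ∣ charDegree χ)
    (Q' := fun χ => ¬ p ∣ charDegree χ) h1 ?_) (fun _ _ => and_comm) fun _ _ => and_comm).card_eq
  intro χ β hχ hβ _ _ r
  rcases hp with hp | rfl
  · rw [charDegree_of_mul' (irr_isCharacter hβ) (irr_isCharacter hθ) (h2 χ β r), hp.dvd_mul_right]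
  · simp only [not_zero_dvd_charDegree hχ, not_zero_dvd_charDegree hβ]

theorem extTo_iff [Finite G] [Finite Γ] (hθ : IsIrrCharacter N θ) (U : Subgroup Q) :
    ExtTo E.ι θ (U.comap π) ↔ ExtTo F.ι (fun z => μ z) (U.comap ρ) := by
  have := Finite.of_injective _ E.inj
  have := Finite.of_injective _ F.inj
  rw [Char.extTo_iff hθ (mem_comap_of_ker h.kerπ U),
    Char.extTo_iff (irr_linear μ) (mem_comap_of_ker h.ker U)]
  obtain ⟨R, h1, h2⟩ := h.bij U (mem_comap_of_ker h.kerπ U) (mem_comap_of_ker h.ker U)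
  refine ⟨fun ⟨χ, a, b, c⟩ => ?_, fun ⟨β, a, b, c⟩ => ?_⟩
  · obtain ⟨β, d, e, f⟩ := h1.ex χ a b
    refine ⟨β, d, e, ?_⟩
    have := h2 χ β f
    rw [c, eq_comm, mul_eq_right₀ (irr_one_ne_zero hθ)] at this
    simpa using this
  · obtain ⟨χ, d, e, f⟩ := h1.surj β a b
    exact ⟨χ, d, e, by simpa [c] using h2 χ β f⟩

end TripIso

/-- The commuting pairs whose first member is `θ`-good. -/
def GoodPair (j : N →* G) (θ : N → ℂ) (π : G →* Q) (X : Subgroup Q) (x : X × X) : Prop :=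
  Commute x.1 x.2 ∧ ∀ z : X, Commute x.1 z →
    ExtTo j θ ((Subgroup.closure {(x.1 : Q), (z : Q)}).comap π)

theorem extTo_central_iff {Z Γ : Type*} [Group Z] [Group Γ] [Finite Γ] (F : NormalEmb Z Γ)
    (hc : ∀ z, F.ι z ∈ Subgroup.center Γ) (μ : Z →* ℂˣ) (ρ : Γ →* Q) (hk : ρ.ker = F.ι.range)
    {x g : Γ} {z : Z} (hz : F.ι z = g * x * g⁻¹ * x⁻¹) :
    ExtTo F.ι (fun z => μ z) ((Subgroup.closure {ρ x, ρ g}).comap ρ) ↔ μ z = 1 := by
  have := Finite.of_injective _ F.inj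
  set U := (Subgroup.closure {ρ x, ρ g}).comap ρ with hU
  have hx : x ∈ U := Subgroup.subset_closure (by simp)
  have hg : g ∈ U := Subgroup.subset_closure (by simp)
  have hZ := mem_comap_of_ker hk (Subgroup.closure {ρ x, ρ g})
  have e : F.ι.codRestrict U hZ z = ⟨g, hg⟩ * ⟨x, hx⟩ * (⟨g, hg⟩ : U)⁻¹ * (⟨x, hx⟩ : U)⁻¹ :=
    Subtype.ext hz
  rw [extTo_iff (irr_linear μ) hZ]
  have := Fintype.ofFinite Z
  have sc : ∀ χ, IsIrrCharacter U χ → Ov (F.ι.codRestrict U hZ) (fun z => μ z) χ →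
      ∀ z y, χ (F.ι.codRestrict U hZ z * y) = μ z * χ y := fun χ a b =>
    scalar_of_inner _ (fun z => Subgroup.mem_center_iff.2 fun g =>
      Subtype.ext (Subgroup.mem_center_iff.1 (hc z) g)) a (ov_iff.1 b)
  refine ⟨fun ⟨χ, a, b, c⟩ => ?_, fun h => ?_⟩
  · have h1 := sc χ a b z 1
    have h3 := (mem_charKer_iff (irr_isCharacter a)).1 (commutator_le_charKer_of_one
        (irr_isCharacter a) (by simpa using c) (Subgroup.commutator_mem_commutator
          (Subgroup.mem_top ⟨g, hg⟩) (Subgroup.mem_top ⟨x, hx⟩)))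
    rw [mul_one, e, ← commutatorElement_def, h3, eq_comm, mul_eq_right₀ (irr_one_ne_zero a)] at h1
    exact Units.ext h1
  · obtain ⟨χ, a, b⟩ := exists_irr_ov (F.ι.codRestrict U hZ)
      (fun _ _ e => F.inj (congrArg Subtype.val e)) (irr_linear μ)
    refine ⟨χ, a, b, ?_⟩
    have := charKer_normal (irr_isClassFunction a)
    let m := QuotientGroup.mk' (charKer χ)
    have gen : ∀ V : Subgroup U, (∀ z, F.ι.codRestrict U hZ z ∈ V) → ⟨x, hx⟩ ∈ V → ⟨g, hg⟩ ∈ V →
        V = ⊤ := fun V h1 h2 h3 => by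
      have : U ≤ V.map U.subtype := by
        rw [← Subgroup.comap_map_eq_self (f := ρ) (H := V.map U.subtype) (by
          rw [hk]; rintro _ ⟨z, rfl⟩; exact ⟨_, h1 z, rfl⟩)]
        refine Subgroup.comap_mono ((Subgroup.closure_le _).2 ?_)
        rintro _ (rfl | rfl)
        exacts [⟨x, ⟨_, h2, rfl⟩, rfl⟩, ⟨g, ⟨_, h3, rfl⟩, rfl⟩]
      refine eq_top_iff.2 fun u _ => ?_
      obtain ⟨v, hv, e⟩ := this u.2
      exact (Subtype.ext e : v = u) ▸ hv
    have cz : ∀ z y, m (F.ι.codRestrict U hZ z) * m y = m y * m (F.ι.codRestrict U hZ z) :=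
      fun z y => by
        rw [← map_mul, ← map_mul]
        exact congrArg m (Subtype.ext (Subgroup.mem_center_iff.1 (hc z) y).symm)
    have cx : m ⟨g, hg⟩ * m ⟨x, hx⟩ = m ⟨x, hx⟩ * m ⟨g, hg⟩ := by
      rw [← commutatorElement_eq_one_iff_mul_comm, ← map_commutatorElement, commutatorElement_def,
        ← e]
      exact (QuotientGroup.eq_one_iff _).2 fun y => by rw [sc χ a b, h]; simp
    have c1 : ∀ w : U, (∀ y, m y * m w = m w * m y) ↔
        (Subgroup.centralizer {m w}).comap m = ⊤ := fun w => by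
      simp only [Subgroup.eq_top_iff', Subgroup.mem_comap, Subgroup.mem_centralizer_singleton_iff]
    have c2 : ∀ w y : U, m y * m w = m w * m y := fun w => (c1 w).2 (gen _
      (fun z => Subgroup.mem_centralizer_singleton_iff.2 (cz z w))
      (Subgroup.mem_centralizer_singleton_iff.2 ((c1 _).2 (gen _
        (fun z => Subgroup.mem_centralizer_singleton_iff.2 (cz z _))
        (Subgroup.mem_centralizer_singleton_iff.2 rfl)
        (Subgroup.mem_centralizer_singleton_iff.2 cx)) w).symm)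
      (Subgroup.mem_centralizer_singleton_iff.2 ((c1 _).2 (gen _
        (fun z => Subgroup.mem_centralizer_singleton_iff.2 (cz z _))
        (Subgroup.mem_centralizer_singleton_iff.2 cx.symm)
        (Subgroup.mem_centralizer_singleton_iff.2 rfl)) w).symm))
    rw [map_one, Units.val_one, irr_one_eq_one_iff a, commutator_def, Subgroup.commutator_le]
    intro u _ v _
    rw [← QuotientGroup.eq_one_iff]
    change m _ = 1
    rw [map_commutatorElement, commutatorElement_eq_one_iff_mul_comm, c2]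

theorem cnt_mul_central {Z Γ : Type*} [Group Z] [Group Γ] [Finite Γ] (F : NormalEmb Z Γ)
    (hc : ∀ z, F.ι z ∈ Subgroup.center Γ) (μ : Z →* ℂˣ) (ρ : Γ →* Q) (hk : ρ.ker = F.ι.range)
    (hρ : Function.Surjective ρ) :
    cnt 0 F.ι (fun z => μ z) * Nat.card Q = Nat.card {x : Q × Q // Commute x.1 x.2 ∧
      ∀ z, Commute x.1 z → ExtTo F.ι (fun z => μ z) ((Subgroup.closure {x.1, z}).comap ρ)} := by
  classical
  have := Finite.of_injective _ F.inj
  have := Finite.of_surjective _ hρ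
  have := Fintype.ofFinite Z
  have := Fintype.ofFinite Γ
  have := Fintype.ofFinite Q
  let f : Γ → ℂ := Function.extend F.ι (fun z => μ z) 0
  have f1 : ∀ z, f (F.ι z) = μ z := F.inj.extend_apply _ _
  have f0 : ∀ y, y ∉ F.ι.range → f y = 0 := fun y hy => Function.extend_apply' _ _ _ hy
  have fm : ∀ z y, f (F.ι z * y) = μ z * f y := fun z y => by
    by_cases hy : y ∈ F.ι.range
    · obtain ⟨w, rfl⟩ := hy
      rw [← map_mul, f1, f1]; simp
    · rw [f0 y hy, f0, mul_zero]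
      exact fun h => hy ((F.ι.range.mul_mem_cancel_left ⟨z, rfl⟩).1 h)
  have fc : IsClassFunction Γ f := fun g x => by
    by_cases hg : g ∈ F.ι.range
    · obtain ⟨w, rfl⟩ := hg
      rw [Subgroup.mem_center_iff.1 (hc w) x, mul_inv_cancel_right]
    · rw [f0 g hg, f0]
      exact fun h => hg (by simpa [mul_assoc] using F.instNormalRange.conj_mem _ h x⁻¹)
  have fi : ∀ χ, IsIrrCharacter Γ χ → (Nat.card Γ : ℂ) * classInner f χ =
      if Ov F.ι (fun z => μ z) χ then Nat.card Z * χ 1 else 0 := fun χ a => by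
    have h1 : (Nat.card Γ : ℂ) * classInner f χ =
        Nat.card Z * conj (classInner (fun z => χ (F.ι z)) fun z => μ z) := by
      rw [inner_conj_symm, card_mul_inner, card_mul_inner, ← Finset.sum_subset
        (Finset.subset_univ (Finset.univ.image F.ι)), Finset.sum_image fun _ _ _ _ e => F.inj e]
      · simp only [f1]
      · intro y _ hy
        rw [f0 y (by simpa using hy), zero_mul]
    rw [h1]
    split_ifs with o
    · have : (fun z => χ (F.ι z)) = χ 1 • fun z => (μ z : ℂ) := funext fun z => by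
        simpa [mul_comm] using scalar_of_inner F.ι hc a (ov_iff.1 o) z 1
      obtain ⟨d, -, hd⟩ := irr_one_eq_nat a
      rw [this, inner_smul_left, inner_irr_self (irr_linear μ), hd]
      simp
    · rw [ov_iff, not_not] at o
      simp [o]
  have s1 : ∑ x, ∑ g, f (g * x * g⁻¹ * x⁻¹) =
      cnt 0 F.ι (fun z => μ z) * Nat.card Z * Nat.card Γ := by
    simp only [classFun_apply_eq_sum fc (_ * _ * _ * _)]
    rw [Finset.sum_congr rfl fun x _ => Finset.sum_comm, Finset.sum_comm]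
    have : ∀ χ : IrrCharacter Γ, ∑ x, ∑ g, classInner f χ * (χ : Γ → ℂ) (g * x * g⁻¹ * x⁻¹) =
        if Ov F.ι (fun z => μ z) χ then (Nat.card Z : ℂ) * Nat.card Γ else 0 := fun χ => by
      have h := card_mul_inner (χ : Γ → ℂ) χ
      rw [inner_irr_self χ.2, mul_one] at h
      simp only [← Finset.mul_sum, sum_irr_conj_mul χ.2, char_inv (irr_isCharacter χ.2)]
      simp only [← Finset.sum_div, mul_assoc, ← Finset.mul_sum, ← h]
      rw [mul_div_assoc, ← mul_assoc, mul_comm (classInner f χ), fi χ χ.2]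
      have := irr_one_ne_zero χ.2
      split_ifs
      · field_simp
      · simp
    simp only [this]
    simp only [Finset.sum_ite, Finset.sum_const_zero, add_zero, Finset.sum_const,
      nsmul_eq_mul, mul_assoc]
    congr 2
    rw [cnt, ← Fintype.card_subtype, ← Nat.card_eq_fintype_card]
    exact Nat.card_congr (Equiv.subtypeEquivRight fun χ => by simp [not_zero_dvd_charDegree χ.2])
  let P : Q → Q → Prop := fun x y => Commute x y ∧
    ∀ z, Commute x z → ExtTo F.ι (fun z => μ z) ((Subgroup.closure {x, z}).comap ρ)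
  have cm : ∀ x g : Γ, Commute (ρ x) (ρ g) ↔ g * x * g⁻¹ * x⁻¹ ∈ F.ι.range := fun x g => by
    rw [← hk, MonoidHom.mem_ker, ← commutatorElement_def, map_commutatorElement,
      commutatorElement_eq_one_iff_commute]
    exact ⟨Commute.symm, Commute.symm⟩
  have s2 : ∀ x, ∑ g, f (g * x * g⁻¹ * x⁻¹) = ∑ g, if P (ρ x) (ρ g) then 1 else 0 := fun x => by
    by_cases h : ∀ z, Commute (ρ x) z →
      ExtTo F.ι (fun z => μ z) ((Subgroup.closure {ρ x, z}).comap ρ)
    · refine Finset.sum_congr rfl fun g _ => ?_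
      by_cases c : Commute (ρ x) (ρ g)
      · obtain ⟨z, hz⟩ := (cm x g).1 c
        rw [if_pos ⟨c, h⟩, ← hz, f1, (extTo_central_iff F hc μ ρ hk hz).1 (h _ c), Units.val_one]
      · rw [if_neg fun k => c k.1, f0 _ (mt (cm x g).2 c)]
    · rw [Finset.sum_congr rfl fun g _ => if_neg fun k : P _ _ => h k.2, Finset.sum_const_zero]
      push Not at h
      obtain ⟨y, c, h⟩ := h
      obtain ⟨g₀, rfl⟩ := hρ y
      obtain ⟨z, hz⟩ := (cm x g₀).1 c
      rw [extTo_central_iff F hc μ ρ hk hz] at h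
      have : ∑ g, f (g * x * g⁻¹ * x⁻¹) = μ z * ∑ g, f (g * x * g⁻¹ * x⁻¹) := by
        rw [Finset.mul_sum, ← Equiv.sum_comp (Equiv.mulRight g₀)]
        refine Finset.sum_congr rfl fun g _ => ?_
        rw [← fm, ← mul_assoc, ← mul_assoc, ← mul_assoc, ← Subgroup.mem_center_iff.1 (hc z) g, hz]
        simp [mul_assoc]
      by_contra k
      exact h (Units.ext ((mul_eq_right₀ k).1 this.symm))
  have cZ : Nat.card ρ.ker = Nat.card Z := by rw [hk, F.card_range]
  have cΓ : Nat.card Γ = Nat.card Z * Nat.card Q := by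
    rw [← cZ, ← Subgroup.card_mul_index ρ.ker, Subgroup.index_ker,
      MonoidHom.range_eq_top.2 hρ, Subgroup.card_top]
  simp only [s2] at s1
  rw [Finset.sum_congr rfl fun x _ => sum_comp_surjective ρ hρ fun y => if P (ρ x) y then 1 else 0,
    ← Finset.mul_sum, sum_comp_surjective ρ hρ fun x => ∑ y, if P x y then 1 else 0, cZ, cΓ,
    ← Fintype.sum_prod_type', Finset.sum_boole, ← Fintype.card_subtype,
    ← Nat.card_eq_fintype_card] at s1
  have hZ : (Nat.card Z : ℂ) ≠ 0 := card_ne_zero_complex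
  apply Nat.cast_injective (R := ℂ)
  push_cast at s1 ⊢
  apply mul_left_cancel₀ hZ
  apply mul_left_cancel₀ hZ
  rw [s1]
  ring

/-- Gallagher's count of the characters over `θ`. -/
theorem cnt_mul {G : Type u} [Group G] [Finite G] (E : NormalEmb N G) {θ : N → ℂ}
    (hθ : IsIrrCharacter N θ) (π : G →* Q) (hk : π.ker = E.ι.range) {X : Subgroup Q}
    (hX : (E.inertia θ).map π = X) :
    cnt 0 E.ι θ * Nat.card X = Nat.card {x // GoodPair E.ι θ π X x} := by
  have h := E.ι_mem_inertia (irr_isClassFunction hθ)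
  let π' : E.inertia θ →* X := (π.comp (Subgroup.subtype _)).codRestrict _ fun t =>
    hX ▸ ⟨t, t.2, rfl⟩
  have s : Function.Surjective π' := fun ⟨x, hx⟩ => by
    obtain ⟨t, ht, rfl⟩ := hX.ge hx
    exact ⟨⟨t, ht⟩, rfl⟩
  have k : π'.ker = (E.restrict _ h).ι.range := by
    ext t
    refine Subtype.ext_iff.trans (Iff.trans (show (t : G) ∈ π.ker ↔ _ by rw [hk]) ?_)
    exact ⟨fun ⟨n, hn⟩ => ⟨n, Subtype.ext hn⟩, fun ⟨n, hn⟩ => ⟨n, congrArg Subtype.val hn⟩⟩
  obtain ⟨Z, Γ, _, _, _, F, μ, ρ, T⟩ :=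
    exists_tripIso (E.restrict _ h) hθ (E.invariant_restrict_inertia h) π' s k
  have e1 := T.cs_eq hθ (Or.inr rfl) ⊤
  rw [Subgroup.comap_top, Subgroup.comap_top, cs_top, cs_top] at e1
  rw [cnt_clifford 0 E hθ le_rfl (Or.inr rfl), cs_eq_cnt 0 h]
  refine (congrArg (· * Nat.card X) e1).trans ((cnt_mul_central F T.central μ ρ T.ker T.surj).trans
    (Nat.card_congr (Equiv.subtypeEquivRight fun x => and_congr_right fun _ =>
      forall₂_congr fun z _ => ?_)))
  rw [← T.extTo_iff hθ, ← extTo_map (Subgroup.subtype_injective _) (j := E.ι) fun _ => rfl]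
  congr! 1
  have : Subgroup.closure {(x.1 : Q), (z : Q)} = (Subgroup.closure {x.1, z}).map X.subtype := by
    simp [MonoidHom.map_closure, Set.image_pair]
  rw [this]
  ext g
  refine ⟨?_, fun ⟨y, h1, h2⟩ => ?_⟩
  · rintro ⟨t, ht, rfl⟩
    exact ⟨_, ht, rfl⟩
  · have : g ∈ E.inertia θ := by
      rw [← Subgroup.comap_map_eq_self (f := π) (H := E.inertia θ) (by
        rw [hk]; exact E.range_le_inertia (irr_isClassFunction hθ)), hX]
      exact Subgroup.mem_comap.2 (h2 ▸ y.2)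
    exact ⟨⟨g, this⟩, show π' ⟨g, this⟩ ∈ _ from (Subtype.ext h2 : y = π' ⟨g, this⟩) ▸ h1, rfl⟩

/-- Comparison of two triples with the same good classes. -/
theorem cnt_eq_of_ext {G G₁ : Type u} {N₁ : Type*} [Group G] [Finite G] [Group G₁] [Finite G₁]
    [Group N₁] (E : NormalEmb N G) (E₁ : NormalEmb N₁ G₁) {θ : N → ℂ} {θ₁ : N₁ → ℂ}
    (hθ : IsIrrCharacter N θ) (hθ₁ : IsIrrCharacter N₁ θ₁) (π : G →* Q) (π₁ : G₁ →* Q)
    (hk : π.ker = E.ι.range) (hk₁ : π₁.ker = E₁.ι.range)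
    (hX : (E.inertia θ).map π = (E₁.inertia θ₁).map π₁)
    (h : ∀ x ∈ (E.inertia θ).map π, ∀ y ∈ (E.inertia θ).map π, Commute x y →
      (ExtTo E.ι θ ((Subgroup.closure {x, y}).comap π) ↔
        ExtTo E₁.ι θ₁ ((Subgroup.closure {x, y}).comap π₁))) :
    cnt 0 E.ι θ = cnt 0 E₁.ι θ₁ := by
  have : Finite ((E.inertia θ).map π) :=
    Finite.of_surjective _ (π.subgroupMap_surjective _)
  refine Nat.eq_of_mul_eq_mul_right (Nat.card_pos (α := (E.inertia θ).map π)) ?_
  rw [cnt_mul E hθ π hk rfl, cnt_mul E₁ hθ₁ π₁ hk₁ hX.symm]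
  exact Nat.card_congr (Equiv.subtypeEquivRight fun x => and_congr_right fun _ =>
    forall₂_congr fun z c => h _ x.1.2 _ z.2 (c.map (Subgroup.subtype _)))

end CF.Char
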